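import Mathlib
import Cfsg.Agent.Lib.Leech.M276
import Cfsg.Agent.Lib.Golay.Out

/-! Words in elements of `Co0` evaluated on vector codes; generation criteria for Co3, Co2, Co0;
the centralisers of the elements of order 23 and 11. -/

set_option autoImplicit false
set_option maxRecDepth 100000
set_option exponentiation.threshold 700

namespace H16

open Cfsg Finset H15

/-- value of a word -/
def wd {G : Type*} [Group G] (x : ℕ → G) (w : List ℕ) : G := (w.map x).prod

theorem wd_nil {G : Type*} [Group G] (x : ℕ → G) : wd x [] = 1 := rfl

theorem wd_cons {G : Type*} [Group G] (x : ℕ → G) (j : ℕ) (w : List ℕ) :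
    wd x (j :: w) = x j * wd x w := rfl

theorem wd_append {G : Type*} [Group G] (x : ℕ → G) (v w : List ℕ) :
    wd x (v ++ w) = wd x v * wd x w := by simp [wd]

theorem wd_replicate {G : Type*} [Group G] (x : ℕ → G) (n j : ℕ) :
    wd x (List.replicate n j) = x j ^ n := by simp [wd]

theorem map_wd {G G' F : Type*} [Group G] [Group G'] [FunLike F G G'] [MonoidHomClass F G G'] (f : F)
    (x : ℕ → G) (w : List ℕ) : f (wd x w) = wd (fun j => f (x j)) w := by
  induction w with
  | nil => exact map_one f
  | cons j w ih => rw [wd_cons, map_mul, ih, wd_cons]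

theorem wd_mem {G : Type*} [Group G] {x : ℕ → G} {H : Subgroup G} (h : ∀ j, x j ∈ H) (w : List ℕ) :
    wd x w ∈ H := by
  induction w with
  | nil => exact one_mem _
  | cons j w ih => exact mul_mem (h j) ih

/-- entry of a list, with a default -/
def pick {α : Type*} (d : α) (l : List α) : ℕ → α :=
  List.rec (motive := fun _ => ℕ → α) (fun _ => d)
    (fun a _ ih j => Nat.rec (motive := fun _ => α) a (fun k _ => ih k) j) l

theorem pick_rel {α β : Type*} {R : α → β → Prop} {d : α} {d' : β} (h0 : R d d') {l : List α}
    {l' : List β} (h : List.Forall₂ R l l') : ∀ j, R (pick d l j) (pick d' l' j) := by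
  induction h with
  | nil => exact fun _ => h0
  | cons a _ ih =>
    intro j
    cases j with
    | zero => exact a
    | succ j => exact ih j

theorem pick_all {α : Type*} {P : α → Prop} {d : α} (h0 : P d) {l : List α} (h : ∀ a ∈ l, P a) :
    ∀ j, P (pick d l j) := by
  induction l with
  | nil => exact fun _ => h0
  | cons a l ih =>
    intro j
    cases j with
    | zero => exact h a List.mem_cons_self
    | succ j => exact ih (fun b hb => h b (List.mem_cons_of_mem _ hb)) j

/-- `F` computes the action of `g` on codes -/
def IsF (F : ℕ → ℕ) (g : Co0) : Prop :=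
  ∀ a v, Code a v → sqNorm (v : GolayPt → ℤ) ≤ 256 → Code (F a) (g • v)

theorem IsM.isF {P : ℕ} {g : Co0} (h : IsM P g) : IsF (H16.app (matR P)) g :=
  fun _ _ hv hn => h.app hv hn

/-- action of a word -/
def wF (F : ℕ → ℕ → ℕ) (w : List ℕ) (a : ℕ) : ℕ :=
  List.rec (motive := fun _ => ℕ) a (fun j _ ih => force ih (F j)) w

/-- iterated action -/
def itF (F : ℕ → ℕ) (n a : ℕ) : ℕ := Nat.rec (motive := fun _ => ℕ) a (fun _ ih => force ih F) n

theorem isF_wF {F : ℕ → ℕ → ℕ} {x : ℕ → Co0} (h : ∀ j, IsF (F j) (x j)) (w : List ℕ) :
    IsF (wF F w) (wd x w) := by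
  intro a v hv hn
  induction w with
  | nil => rw [wd_nil, one_smul]; exact hv
  | cons j w ih =>
    have : wF F (j :: w) a = force (wF F w a) (F j) := rfl
    rw [this, force_eq, wd_cons, mul_smul]
    exact h j _ _ ih (by rwa [sqNorm_co0])

theorem IsF.pow {F : ℕ → ℕ} {g : Co0} (h : IsF F g) (n : ℕ) : IsF (itF F n) (g ^ n) := by
  intro a v hv hn
  induction n with
  | zero => rw [pow_zero, one_smul]; exact hv
  | succ n ih =>
    have : itF F (n + 1) a = force (itF F n a) F := rfl
    rw [this, force_eq, pow_succ', mul_smul]
    exact h _ _ ih (by rwa [sqNorm_co0])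

theorem IsF.smul_eq {F : ℕ → ℕ} {g : Co0} (h : IsF F g) {a b : ℕ} {v w : leechLattice}
    (hv : Code a v) (hw : Code b w) (hn : sqNorm (v : GolayPt → ℤ) ≤ 256) (e : F a = b) :
    g • v = w := (e ▸ h a v hv hn).eq_vec hw

/-- the letters: multipliers of a list of matrix codes -/
def letF (Ps : List ℕ) (j : ℕ) : ℕ → ℕ := app (matR (pick oneM Ps j))

theorem isF_letF {Ps : List ℕ} {gs : List Co0} (h : List.Forall₂ IsM Ps gs) (j : ℕ) :
    IsF (letF Ps j) (pick 1 gs j) := (pick_rel isM_one h j).isF

/-- the same with the multipliers stored -/
def letR (Rs : List ℕ) (j : ℕ) : ℕ → ℕ := app (pick (matR oneM) Rs j)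

theorem isF_letR {Ps Rs : List ℕ} {gs : List Co0} (h : List.Forall₂ IsM Ps gs)
    (e : Ps.map matR = Rs) (j : ℕ) : IsF (letR Rs j) (pick 1 gs j) := by
  subst e
  refine pick_rel (R := fun R g => IsF (app R) g) isM_one.isF ?_ j
  rw [List.forall₂_map_left_iff]
  exact h.imp fun _ _ a => a.isF

/-- `F` is the action of the matrix `P` -/
def eqM (F : ℕ → ℕ) (P : ℕ) : Bool := allLt 24 fun i => Nat.beq (F (e8C i)) (col P i)

theorem IsF.eq_of_eqM {F : ℕ → ℕ} {P : ℕ} {g h : Co0} (hF : IsF F g) (hP : IsM P h)
    (e : eqM F P = true) : g = h :=
  co0_ext (forall_pt.2 fun i hi => hF.smul_eq (code_e8C hi) (hP.2 i hi)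
    (by rw [sqNorm_e8]; norm_num) (Nat.eq_of_beq_eq_true (allLt_iff.1 e i hi)))

/-- the map onto `Co1` -/
abbrev mk1 : Co0 →* Spor.Co1 := QuotientGroup.mk' (Subgroup.center Co0)

theorem mk1_eq_iff {a b : Co0} : mk1 a = mk1 b ↔ a = b ∨ a = negCo0 * b := co1_mk_eq_iff

theorem mk1_neg (a : Co0) : mk1 (negCo0 * a) = mk1 a := mk1_eq_iff.2 (Or.inr rfl)

theorem mk1_eq_one {a : Co0} : mk1 a = 1 ↔ a = 1 ∨ a = negCo0 := by
  rw [← map_one mk1, mk1_eq_iff, mul_one]

theorem mk1_surj (x : Spor.Co1) : ∃ g, mk1 g = x := QuotientGroup.mk_surjective x

theorem neg_comm (g : Co0) : g * negCo0 = negCo0 * g :=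
  Subgroup.mem_center_iff.1 negCo0_mem_center g

/-- `F` is the action of `1` or `-1` -/
def holds (F : ℕ → ℕ) : Bool := eqM F oneM || eqM F negM

/-- `F` moves the pair `±a` -/
def fails (a : ℕ) (F : ℕ → ℕ) : Bool := force (F a) fun b => !(Nat.beq b a) && !(Nat.beq b (negC a))

theorem IsF.mk1_eq_one {F : ℕ → ℕ} {g : Co0} (hF : IsF F g) (e : holds F = true) : mk1 g = 1 := by
  rw [holds, Bool.or_eq_true] at e
  exact H16.mk1_eq_one.2 (e.imp (hF.eq_of_eqM isM_one) (hF.eq_of_eqM isM_neg))

theorem IsF.mk1_ne_one {F : ℕ → ℕ} {g : Co0} (hF : IsF F g) {a : ℕ} {v : leechLattice}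
    (hv : Code a v) (hn : sqNorm (v : GolayPt → ℤ) ≤ 256) (e : fails a F = true) : mk1 g ≠ 1 := by
  simp only [fails, force_eq, Bool.and_eq_true, Bool.not_eq_true', ← Bool.not_eq_true,
    Nat.beq_eq] at e
  intro h
  have := hF a v hv hn
  rcases H16.mk1_eq_one.1 h with rfl | rfl
  · rw [one_smul] at this; exact e.1 (this.eq_code hv)
  · rw [negCo0_smul] at this; exact e.2 (this.eq_code (hv.neg hn))

/-- a test vector -/
def TV : ℕ := 0xd001100110011001100110011001100110011001100110015001100110011000d001100110011000d001100110015

theorem code_TV : Code TV (lv TV) := code_lv (by decide +kernel)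
theorem norm_TV : sqNorm (lv TV : GolayPt → ℤ) ≤ 256 := by
  rw [code_TV.norm]; decide +kernel

/-- action of `w ^ n`, the letters of `w` being the words `us` -/
def relF (F : ℕ → ℕ → ℕ) (us : List (List ℕ)) (r : List ℕ × ℕ) : ℕ → ℕ :=
  itF (wF (fun j => wF F (pick [] us j)) r.1) r.2

/-- relations modulo `±1` are preserved by endomorphisms -/
theorem not_rels {G : Type*} [Group G] (ι : G →* Spor.Co1) (hι : Function.Injective ι) (ψ : G →* G)
    {F : ℕ → ℕ → ℕ} {g : ℕ → Co0} (hF : ∀ j, IsF (F j) (g j)) {xs : List G} {us us' : List (List ℕ)}
    (h : List.Forall₂ (fun x u => ι x = mk1 (wd g u)) xs us)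
    (h' : List.Forall₂ (fun x u => ι (ψ x) = mk1 (wd g u)) xs us') {rels : List (List ℕ × ℕ)}
    (c : (rels.all fun r => holds (relF F us r)) = true) :
    ¬ (rels.any fun r => fails TV (relF F us' r)) = true := by
  rw [List.any_eq_true]
  rintro ⟨r, hr, e⟩
  have h1 := ((isF_wF (fun j => isF_wF hF (pick [] us j)) r.1).pow r.2).mk1_eq_one
    (List.all_eq_true.1 c r hr)
  have h2 := ((isF_wF (fun j => isF_wF hF (pick [] us' j)) r.1).pow r.2).mk1_ne_one code_TV norm_TV e
  have a1 := pick_rel (d := 1) (d' := []) (by simp [wd_nil]) h
  have a2 := pick_rel (d := 1) (d' := []) (by simp [wd_nil]) h'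
  apply h2
  rw [map_pow, map_wd] at h1 ⊢
  simp only [← a1, ← a2] at h1 ⊢
  rw [← map_wd, ← map_pow, map_eq_one_iff _ hι] at h1
  rw [← map_wd ι, ← map_wd ψ, ← map_pow, ← map_pow, h1, map_one, map_one]

theorem comm_of_mk1 {g h : Co0} (ho : Odd (orderOf h)) (e : mk1 g * mk1 h = mk1 h * mk1 g) :
    g * h = h * g := by
  rw [← map_mul, ← map_mul, mk1_eq_iff] at e
  refine e.resolve_right fun e => negCo0_ne_one ?_
  have h1 : g * h * g⁻¹ = negCo0 * h := by rw [e]; group
  have h2 : (g * h * g⁻¹) ^ orderOf h = 1 := by rw [conj_pow, pow_orderOf_eq_one]; simp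
  obtain ⟨k, hk⟩ := ho
  rw [h1, (show Commute negCo0 h from (neg_comm h).symm).mul_pow, pow_orderOf_eq_one, mul_one, hk,
    pow_succ, pow_mul, pow_two, negCo0_mul_self, one_pow, one_mul] at h2
  exact h2

theorem orderOf_mk1 {h : Co0} {p : ℕ} (hp : p.Prime) (h2 : p ≠ 2) (e : orderOf h = p) :
    orderOf (mk1 h) = p := by
  have := Fact.mk hp
  refine orderOf_eq_prime (by rw [← map_pow, ← e, pow_orderOf_eq_one, map_one]) fun h1 => ?_
  rcases mk1_eq_one.1 h1 with rfl | rfl
  · rw [orderOf_one] at e; exact hp.one_lt.ne e
  · exact h2 (e.symm.trans (orderOf_eq_prime (by rw [pow_two, negCo0_mul_self]) negCo0_ne_one))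

/-! ### generation -/

/-- the words `e.1` fix the vectors `fix` and map `x` to a vector with inner products `e.2` with
`U` and `W` -/
def covOk (F : ℕ → ℕ → ℕ) (fix x : ℕ) (L : List (List ℕ × ℤ × ℤ)) : Bool :=
  L.all fun e => Nat.beq (wF F e.1 fix) fix && force (wF F e.1 x) fun y =>
    decide (dotC UC y = e.2.1) && decide (dotC WC y = e.2.2)

theorem le_of_cov {H : Subgroup Co0} (hM : Stab vU ⊓ Stab vW ≤ H) {F : ℕ → ℕ → ℕ} {g : ℕ → Co0}
    (hF : ∀ j, IsF (F j) (g j)) (hg : ∀ j, g j ∈ H) {f x : ℕ} {v y : leechLattice} (hv : Code f v)
    (hn : sqNorm (v : GolayPt → ℤ) ≤ 256) (hy : Code x y) (hy' : y ∈ Min)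
    (h1 : Stab vU ⊓ Stab vW ≤ Stab v) (h2 : Stab v ⊓ Stab y ≤ Stab vU ⊓ Stab vW)
    {L : List (List ℕ × ℤ × ℤ)} (c : covOk F f x L = true)
    (hL : ∀ k ∈ Stab v, φUW (k • y) ∈ L.map Prod.snd) : Stab v ≤ H := by
  intro k hk
  obtain ⟨e, he, e1⟩ := List.mem_map.1 (hL k hk)
  have c1 := List.all_eq_true.1 c e he
  simp only [force_eq, Bool.and_eq_true, Nat.beq_eq, decide_eq_true_eq] at c1
  have a1 := (isF_wF hF e.1).smul_eq hv hv hn c1.1
  have a2 := isF_wF hF e.1 x y hy (by rw [hy']; norm_num)
  obtain ⟨m, hm, a3⟩ := mcl_trans (smul_mem_Min (wd g e.1) hy') (smul_mem_Min k hy') (by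
    rw [← e1]
    exact Prod.ext ((code_U.dot a2).trans c1.2.1) ((code_W.dot a2).trans c1.2.2))
  have a4 : k⁻¹ * m * wd g e.1 ∈ H := hM (h2 (Subgroup.mem_inf.2
    ⟨mul_mem (mul_mem (inv_mem hk) (h1 hm)) a1, by
    rw [mem_Stab, mul_smul, mul_smul, a3, inv_smul_smul]⟩))
  have := H.mul_mem (H.mul_mem (hM hm) (wd_mem hg e.1)) (H.inv_mem a4)
  simpa [mul_assoc] using this

theorem mcl_le_of_words {H : Subgroup Co0} {F : ℕ → ℕ → ℕ} {g : ℕ → Co0}
    (hF : ∀ j, IsF (F j) (g j)) (hg : ∀ j, g j ∈ H) (w₁ w₂ : List ℕ)
    (c : (eqM (wF F w₁) (pick 0 mclP 0) && eqM (wF F w₂) (pick 0 mclP 1)) = true) :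
    Stab vU ⊓ Stab vW ≤ H := by
  rw [Bool.and_eq_true] at c
  rw [← closure_mclP, Subgroup.closure_le]
  intro x hx
  obtain ⟨P, hP, rfl⟩ := List.mem_map.1 hx
  have h1 := isM_el (mclP_mem P hP).1
  have h2 : P = pick 0 mclP 0 ∨ P = pick 0 mclP 1 := by
    unfold mclP at hP
    simp only [List.mem_cons, List.not_mem_nil, or_false] at hP
    exact hP
  rcases h2 with e | e
  · exact (isF_wF hF w₁).eq_of_eqM h1 (e ▸ c.1) ▸ wd_mem hg w₁
  · exact (isF_wF hF w₂).eq_of_eqM h1 (e ▸ c.2) ▸ wd_mem hg w₂

theorem co0_le {H : Subgroup Co0} (hU : Stab vU ≤ H) (hn : negCo0 ∈ H)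
    (h : ∀ k ∈ [(16 : ℤ), 8, 0], ∃ g ∈ H,
      dotInt (vU : GolayPt → ℤ) ((g • vU : leechLattice) : GolayPt → ℤ) = k) : H = ⊤ := by
  have key : ∀ g ∈ H, ∀ k : Co0, dotInt (vU : GolayPt → ℤ) ((g • vU : leechLattice) : GolayPt → ℤ) =
      dotInt (vU : GolayPt → ℤ) ((k • vU : leechLattice) : GolayPt → ℤ) → k ∈ H := by
    intro g hg k e
    obtain ⟨m, hm, a3⟩ := co2_trans (smul_mem_Min g norm_U) (smul_mem_Min k norm_U) e
    have a4 : k⁻¹ * m * g ∈ H := hU (by rw [mem_Stab, mul_smul, mul_smul, a3, inv_smul_smul])
    have := H.mul_mem (H.mul_mem (hU hm) hg) (H.inv_mem a4)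
    simpa [mul_assoc] using this
  have hneg : ∀ g : Co0, dotInt (vU : GolayPt → ℤ) (((negCo0 * g) • vU : leechLattice) : GolayPt → ℤ) =
      -dotInt (vU : GolayPt → ℤ) ((g • vU : leechLattice) : GolayPt → ℤ) := fun g => by
    rw [mul_smul, negCo0_smul, AddSubgroup.coe_neg, dotInt_neg_right]
  rw [eq_top_iff]
  intro k _
  have k1 : ∀ k ∈ mclL.map Prod.fst, k.1 = 32 ∨ k.1 = -32 ∨ k.1 = 16 ∨ k.1 = 8 ∨ k.1 = 0 ∨
      k.1 = -8 ∨ k.1 = -16 := by decide
  have k2 := k1 _ (φUW_mem (smul_mem_Min k norm_U))
  obtain ⟨g1, a1, b1⟩ := h 16 (by simp)
  obtain ⟨g2, a2, b2⟩ := h 8 (by simp)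
  obtain ⟨g3, a3, b3⟩ := h 0 (by simp)
  have b0 : dotInt (vU : GolayPt → ℤ) (((1 : Co0) • vU : leechLattice) : GolayPt → ℤ) = 32 := by
    rw [one_smul, dotInt_self, norm_U]
  simp only [φUW_def] at k2
  rcases k2 with e | e | e | e | e | e | e
  · exact key 1 (one_mem _) k (b0.trans e.symm)
  · exact key _ (mul_mem hn (one_mem _)) k (by rw [hneg, b0, e])
  · exact key _ a1 k (b1.trans e.symm)
  · exact key _ a2 k (b2.trans e.symm)
  · exact key _ a3 k (b3.trans e.symm)
  · exact key _ (mul_mem hn a2) k (by rw [hneg, b2, e])
  · exact key _ (mul_mem hn a1) k (by rw [hneg, b1, e])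

/-! ### centralisers -/

theorem fix_of_comm {g h : Co0} (e : g * h = h * g) {v : leechLattice} (hv : h • v = v) :
    h • (g • v) = g • v := by rw [← mul_smul, ← e, mul_smul, hv]

theorem comm_of_permHom {σ τ : M24} (e : permHom σ * permHom τ = permHom τ * permHom σ) :
    (σ : Equiv.Perm GolayPt) * τ = τ * σ := by
  rw [← map_mul, ← map_mul] at e
  exact congrArg Subtype.val (permHom_injective e)

theorem h23_fix : h23 • vV = vV ∧ h23 • e8 none = e8 none := by
  have := h23_mem
  rw [← stab_V_e8] at this
  exact this

theorem cent_h23_aux {g : Co0} (e : g * h23 = h23 * g) (h : g • e8 none = e8 none) :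
    ∃ i < 23, g = h23 ^ i := by
  have h0 : g • vV = vV := by
    obtain ⟨s, h1, h2⟩ := fix_h23 (fix_of_comm e h23_fix.1)
    have n := (sqNorm_co0 g vV).trans norm_V
    have d1 := dot_of_fix h vV
    have d2 := eight_dvd_dotInt vV.2 (g • vV).2
    rw [coe_e8, dotInt_single_left, dotInt_single_left, V_apply, if_pos rfl] at d1
    refine eq_of_dot norm_V n ?_
    rw [dot_V', h2] at d2 ⊢
    rw [n] at h1
    obtain ⟨h3, h4, h5⟩ := quad23 h1 (by norm_num)
    have a : ((g • vV : leechLattice) : GolayPt → ℤ) none = -5 := by omega
    rw [a] at h1 d2 ⊢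
    omega
  have : g ∈ permSub Spor.M23 := stab_V_e8 ▸ ⟨h0, h⟩
  obtain ⟨σ, -, rfl⟩ := this
  obtain ⟨i, hi, e1⟩ := cent_alpha σ.2 (comm_of_permHom e)
  refine ⟨i, hi, ?_⟩
  rw [h23, ← map_pow]
  exact congrArg permHom (Subtype.ext e1)

/-- the centraliser of the element of order 23 -/
theorem cent_h23 {g : Co0} (e : g * h23 = h23 * g) : ∃ i < 23, mk1 g = mk1 h23 ^ i := by
  obtain ⟨s, h1, h2⟩ := fix_h23 (fix_of_comm e h23_fix.2)
  have n := (sqNorm_co0 g (e8 none)).trans (sqNorm_e8 _)
  rw [n] at h1
  obtain ⟨h3, h4, h5⟩ := quad23 h1 le_rfl
  have a : ((g • e8 none : leechLattice) : GolayPt → ℤ) none = 8 ∨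
      ((g • e8 none : leechLattice) : GolayPt → ℤ) none = -8 := by
    generalize ((g • e8 none : leechLattice) : GolayPt → ℤ) none = a at *
    rcases h3 with rfl | rfl | rfl <;> interval_cases a <;> omega
  rcases a with a | a
  · obtain ⟨i, hi, e1⟩ := cent_h23_aux e (eq_of_dot (sqNorm_e8 _) n (by
      rw [coe_e8, dotInt_single_left, a]; norm_num))
    exact ⟨i, hi, by rw [e1, map_pow]⟩
  · obtain ⟨i, hi, e1⟩ := cent_h23_aux (g := negCo0 * g)
      (by rw [mul_assoc, e, ← mul_assoc, ← neg_comm, mul_assoc]) (eq_of_dot (sqNorm_e8 _)
        ((sqNorm_co0 _ _).trans (sqNorm_e8 _)) (by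
      rw [coe_e8, dotInt_single_left, mul_smul, negCo0_smul, AddSubgroup.coe_neg, Pi.neg_apply, a]
      norm_num))
    exact ⟨i, hi, by rw [← mk1_neg g, e1, map_pow]⟩

/-- coordinates of a vector fixed by the element of order 11 -/
def fv11 (q : ℤ × ℤ × ℤ × ℤ) (i : ℕ) : ℤ :=
  if i = 23 then q.1 else if i = 0 then q.2.1 else
    if i ∈ [1, 2, 3, 4, 6, 8, 9, 12, 13, 16, 18] then q.2.2.1 else q.2.2.2

/-- the vector has these coordinates -/
def Is11 (v : leechLattice) (q : ℤ × ℤ × ℤ × ℤ) : Prop :=
  ∀ i < 24, (v : GolayPt → ℤ) (pt i) = fv11 q i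

theorem Is11.eq {v w : leechLattice} {q : ℤ × ℤ × ℤ × ℤ} (h : Is11 v q) (h' : Is11 w q) : v = w :=
  Subtype.ext (funext (forall_pt.2 fun i hi => (h i hi).trans (h' i hi).symm))

theorem Is11.dot {v w : leechLattice} {q r : ℤ × ℤ × ℤ × ℤ} (h : Is11 v q) (h' : Is11 w r) :
    dotInt (v : GolayPt → ℤ) (w : GolayPt → ℤ) =
      q.1 * r.1 + q.2.1 * r.2.1 + 11 * (q.2.2.1 * r.2.2.1) + 11 * (q.2.2.2 * r.2.2.2) := by
  rw [dotInt_def, sum_pt, Finset.sum_congr rfl fun i hi => by
    rw [h i (Finset.mem_range.1 hi), h' i (Finset.mem_range.1 hi)]]
  simp [Finset.sum_range_succ, fv11]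
  ring

theorem Code.is11 {a : ℕ} {v : leechLattice} (h : Code a v) {q : ℤ × ℤ × ℤ × ℤ}
    (e : ∀ i < 24, (dg a i : ℤ) - 16 = fv11 q i) : Is11 v q :=
  fun i hi => (h.dg_eq hi).symm.trans (e i hi)

theorem exists_is11 {y : leechLattice} (h : h11 • y = y) : ∃ q, Is11 y q := by
  have h1 : ∀ i < 23, ap betaC i = 2 * i % 23 := by decide +kernel
  obtain ⟨Y, hY⟩ : ∃ Y : ℕ → ℤ, ∀ i, Y i = (y : GolayPt → ℤ) (pt i) := ⟨_, fun _ => rfl⟩
  have H : ∀ i < 23, Y (2 * i % 23) = Y i := fun i hi => by
    rw [hY, hY, ← h1 i hi]; exact fix_perm (hc := inM24_betaC) h (by omega)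
  have H2 : ∀ k i, i < 23 → Y (2 ^ k * i % 23) = Y i := by
    intro k
    induction k with
    | zero => intro i hi; rw [pow_zero, one_mul, Nat.mod_eq_of_lt hi]
    | succ k ih =>
      intro i hi
      rw [← H i hi, ← ih (2 * i % 23) (Nat.mod_lt _ (by norm_num)), Nat.mul_mod_mod, pow_succ,
        mul_assoc]
  have H3 : ∀ i < 23, i ≠ 0 → ∃ k < 11,
      2 ^ k * (if i ∈ [1, 2, 3, 4, 6, 8, 9, 12, 13, 16, 18] then 1 else 5) % 23 = i := by decide
  refine ⟨(Y 23, Y 0, Y 1, Y 5), fun i hi => ?_⟩
  rw [← hY, fv11]
  split_ifs with a b c
  · rw [a]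
  · rw [b]
  · obtain ⟨k, -, e⟩ := H3 i (by omega) b
    rw [if_pos c] at e
    rw [← e, H2 k 1 (by norm_num)]
  · obtain ⟨k, -, e⟩ := H3 i (by omega) b
    rw [if_neg c] at e
    rw [← e, H2 k 5 (by norm_num)]

/-- the centraliser of the element of order 11 modulo it and the sign: six matrices -/
def cP : List ℕ := [0x1800100010001000100010001000100010001000100010001000100010001000100010001000100010001000100010001000180010001000100010001000100010001000100010001000100010001000100010001000100010001000100010001000100018001000100010001000100010001000100010001000100010001000100010001000100010001000100010001000100010001800100010001000100010001000100010001000100010001000100010001000100010001000100010001000100010001000180010001000100010001000100010001000100010001000100010001000100010001000100010001000100010001000100018001000100010001000100010001000100010001000100010001000100010001000100010001000100010001000100010001800100010001000100010001000100010001000100010001000100010001000100010001000100010001000100010001000180010001000100010001000100010001000100010001000100010001000100010001000100010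001000100010001000100018001000100010001000100010001000100010001000100010001000100010001000100010001000100010001000100010001800100010001000100010001000100010001000100010001000100010001000100010001000100010001000100010001000180010001000100010001000100010001000100010001000100010001000100010001000100010001000100010001000100018001000100010001000100010001000100010001000100010001000100010001000100010001000100010001000100010001800100010001000100010001000100010001000100010001000100010001000100010001000100010001000100010001000180010001000100010001000100010001000100010001000100010001000100010001000100010001000100010001000100018001000100010001000100010001000100010001000100010001000100010001000100010001000100010001000100010001800100010001000100010001000100010001000100010001000100010001000100010001000100010001000100010001000180010001000100010001000100010001000100010001000100010001000100010001000100010001000100010001000100018001000100010001000100010001000100010001000100010001000100010001000100010001000100010001000100010001800100010001000100010001000100010001000100010001000100010001000100010001000100010001000100010001000180010001000100010001000100010001000100010001000100010001000100010001000100010001000100010001000100018001000100010001000100010001000100010001000100010001000100010001000100010001000100010001000100010001800100010001000100010001000100010001000100010001000100010001000100010001000100010001000100010001000180010001000100010001000100010001000100010001000100010001000100010001000100010001000100010001000100018,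 0xc0010001000100010001200100012001000100012001200100010001200120010001200100012001200120012000e0010000c00100010001000120010000e00100010000e00120010001000120012001000120010000e0012000e000e001200100010000c00100010001200100012001000100012001200100010000e000e001000120010000e000e000e00120012001000100010000c001000120010000e001000100012000e00100010001200120010000e00100012000e000e001200120010001000100010000c000e0010000e0010001000120012001000100012000e0010000e0010000e00120012001200120012001200120012000e0014001200100012000e00100010000e001200100010000e0010000e00100010001000100010001000100010001000100012000c0012001000100012000e00100010000e00120010000e0010000e00120012000e00120012000e0012000e000e001000120014000e0012001000100012001200100010000e00100012001000100010001000100010001000100010001000120010000e000c0010000e000e00100010000e000e0010001200100012001200120012001200100010001000100010000e001000120010000c000e001200100010000e00120010000e001000120012000e001200120012000e001200120012001000120010000e000e001400100012000e0010001000120010000e00100010001000100010001200120012000e00120010000e0010000e00120010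0014000e00120010001000120010000e0010001000100010001000100010001000100010000e00100012001000100012000e000c00100012000e00100012001000120012000e000e00120010001000100010001000120010001200100010000e00120010000c0012000e0010000e00100012000e0012000e001200120012000e001200120010000e0010000e000e001000100012001200140010000e001000120010001000100010001000120012000e0012000e001000120010000e001200100010000e000e001000140012001000120010001000100010001000100010001000100010000e0010000e001000100012001200100010000e0012000c001200100012000e0012000e0012001200120012000e000e0010000e00100012000e001000100012000e001000100012001400120010001000100010001000100010001000100010000e0010001200100010000e000e001000100012001200100012000c000e000e0012001200120012000e000e0012000e0010000e00100012001200100010001200120010001000120010000e0014001000100010001000120012000e000e001200100012001000120012001000100012000e00100010000e0010000e001000140010001000100012000e000e000e00120010001200100012000e00100010000e001200100010001200100012001000100014001000100012000e0012001200120010000e00100012001200100010000e000e00100010000e0010001200100010001000140010000e00120012001200120010001200100012001200100010001200120010001000120010001200100010001000100014,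 0x140010001000100010001200100012001000100012001200100010001200120010001200100012001200120012000e0010001400100010001000120010000e00100010000e00120010001000120012001000120010000e0012000e000e001200100010001400100010001200100012001000100012001200100010000e000e001000120010000e000e000e001200120010001000100014001000120010000e001000100012000e00100010001200120010000e00100012000e000e0012001200100010001000100014000e0010000e0010001000120012001000100012000e0010000e0010000e00120012001200120012001200120012000e000c001200100012000e00100010000e001200100010000e0010000e0010001000100010001000100010001000100010001200140012001000100012000e00100010000e00120010000e0010000e00120012000e00120012000e0012000e000e00100012000c000e0012001000100012001200100010000e00100012001000100010001000100010001000100010001000120010000e00140010000e000e00100010000e000e0010001200100012001200120012001200100010001000100010000e0010001200100014000e001200100010000e00120010000e001000120012000e001200120012000e001200120012001000120010000e000e000c00100012000e0010001000120010000e00100010001000100010001200120012000e00120010000e0010000e0012001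0000c000e00120010001000120010000e0010001000100010001000100010001000100010000e00100012001000100012000e001400100012000e00100012001000120012000e000e00120010001000100010001000120010001200100010000e0012001000140012000e0010000e00100012000e0012000e001200120012000e001200120010000e0010000e000e0010001000120012000c0010000e001000120010001000100010001000120012000e0012000e001000120010000e001200100010000e000e0010000c0012001000120010001000100010001000100010001000100010000e0010000e001000100012001200100010000e00120014001200100012000e0012000e0012001200120012000e000e0010000e00100012000e001000100012000e001000100012000c00120010001000100010001000100010001000100010000e0010001200100010000e000e0010001000120012001000120014000e000e0012001200120012000e000e0012000e0010000e00100012001200100010001200120010001000120010000e000c001000100010001000120012000e000e001200100012001000120012001000100012000e00100010000e0010000e0010000c0010001000100012000e000e000e00120010001200100012000e00100010000e00120010001000120010001200100010000c001000100012000e0012001200120010000e00100012001200100010000e000e00100010000e00100012001000100010000c0010000e0012001200120012001000120010001200120010001000120012001000100012001000120010001000100010000c,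 0x18001000100010001000100010001000100010001000100010001000100010001000100010001000100010001000100010001800100010001000100010001000100010001000100010001000100010001000100010001000100010001000100010001000180010001000100010001000100010001000100010001000100010001000100010001000100010001000100010001000100018001000100010001000100010001000100010001000100010001000100010001000100010001000100010001000100010001800100010001000100010001000100010001000100010001000100010001000100010001000100010001000100010001000080010001000100010001000100010001000100010001000100010001000100010001000100010001000100010001000100018001000100010001000100010001000100010001000100010001000100010001000100010001000100010001000100010000800100010001000100010001000100010001000100010001000100010001000100010001000100010001000100010001000180010001000100010001000100010001000100010001000100010001000100010001000100010001000100010001000100018001000100010001000100010001000100010001000100010001000100010001000100010001000100010001000100010000800100010001000100010001000100010001000100010001000100010001000100010001000100010001000100010001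00008001000100010001000100010001000100010001000100010001000100010001000100010001000100010001000100010001800100010001000100010001000100010001000100010001000100010001000100010001000100010001000100010001000180010001000100010001000100010001000100010001000100010001000100010001000100010001000100010001000100008001000100010001000100010001000100010001000100010001000100010001000100010001000100010001000100010000800100010001000100010001000100010001000100010001000100010001000100010001000100010001000100010001000180010001000100010001000100010001000100010001000100010001000100010001000100010001000100010001000100008001000100010001000100010001000100010001000100010001000100010001000100010001000100010001000100010001800100010001000100010001000100010001000100010001000100010001000100010001000100010001000100010001000080010001000100010001000100010001000100010001000100010001000100010001000100010001000100010001000100008001000100010001000100010001000100010001000100010001000100010001000100010001000100010001000100010000800100010001000100010001000100010001000100010001000100010001000100010001000100010001000100010001000080010001000100010001000100010001000100010001000100010001000100010001000100010001000100010001000100008,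 0x140010001000100010001200100012001000100012001200100010001200120010001200100012001200120012000e0010001400100010001000120010000e00100010000e00120010001000120012001000120010000e0012000e000e001200100010001400100010001200100012001000100012001200100010000e000e001000120010000e000e000e001200120010001000100014001000120010000e001000100012000e00100010001200120010000e00100012000e000e0012001200100010001000100014000e0010000e0010001000120012001000100012000e0010000e0010000e0012001200120012000e000e000e000e00120014000e0010000e0012001000100012000e001000100012001000120010001000100010001000100010001000100010001200140012001000100012000e00100010000e00120010000e0010000e00120012000e0012000e0012000e001200120010000e00140012000e00100010000e000e0010001000120010000e001000100010001000100010001000100010001000120010000e00140010000e000e00100010000e000e0010001200100012001200120012001200100010001000100010000e0010001200100014000e001200100010000e00120010000e001000120012000e00120012000e0012000e000e000e0010000e00100012001200140010000e001200100010000e0010001200100010001000100010000e000e000e0012000e0010001200100012000e001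000140012000e00100010000e001000120010001000100010001000100010001000100010000e00100012001000100012000e001400100012000e00100012001000120012000e000e00120010001000100010001000120010001200100010000e0012001000140012000e0010000e00100012000e0012000e0012000e000e0012000e000e0010001200100012001200100010000e000e0014001000120010000e00100010001000100010000e000e0012000e00120010000e00100012000e001000100012001200100014000e0010000e0010001000100010001000100010001000100010000e0010000e001000100012001200100010000e00120014001200100012000e0012000e0012000e000e000e00120012001000120010000e001200100010000e001200100010000e0014000e0010001000100010001000100010001000100010000e0010001200100010000e000e0010001000120012001000120014000e000e001200120012000e00120012000e0012001000120010000e000e00100010000e000e00100010000e0010001200140010001000100010000e000e00120012000e0010000e0010000e000e00100010000e00120010001000120010001200100014001000100010000e001200120012000e0010000e0010000e0012001000100012000e00100010000e0010000e00100010001400100010000e0012000e000e000e001000120010000e000e00100010001200120010001000120010000e001000100010001400100012000e000e000e000e0010000e0010000e000e00100010000e000e00100010000e0010000e00100010001000100014,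 0x140010001000100010000e0010000e00100010000e000e00100010000e000e0010000e0010000e000e000e000e001200100014001000100010000e00100012001000100012000e00100010000e000e0010000e00100012000e00120012000e00100010001400100010000e0010000e00100010000e000e00100010001200120010000e0010001200120012000e000e00100010001000140010000e0010001200100010000e001200100010000e000e001000120010000e00120012000e000e0010001000100010001400120010001200100010000e000e00100010000e00120010001200100012000e000e000e000e0012001200120012000e0014001200100012000e00100010000e001200100010000e0010000e0010001000100010001000100010001000100010000e0014000e00100010000e0012001000100012000e0010001200100012000e000e0012000e0012000e0012000e000e001000120014000e0012001000100012001200100010000e001000120010001000100010001000100010001000100010000e00100012001400100012001200100010001200120010000e0010000e000e000e000e000e0010001000100010001000120010000e001000140012000e001000100012000e001000120010000e000e0012000e000e0012000e001200120012001000120010000e000e001400100012000e0010001000120010000e00100010001000100010001200120012000e00120010000e0010000e0012001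00014000e00120010001000120010000e001000100010001000100010001000100010001000120010000e00100010000e001200140010000e00120010000e0010000e000e00120012000e00100010001000100010000e0010000e001000100012000e00100014000e0012001000120010000e0012000e0012000e00120012000e001200120010000e0010000e000e001000100012001200140010000e001000120010001000100010001000120012000e0012000e001000120010000e001200100010000e000e00100014001200100012001000100010001000100010001000100010001000120010001200100010000e000e001000100012000e0014000e0010000e0012000e0012000e001200120012000e000e0010000e00100012000e001000100012000e00100010001200140012001000100010001000100010001000100010001000120010000e001000100012001200100010000e000e0010000e001400120012000e000e000e0012000e000e0012000e0010000e00100012001200100010001200120010001000120010000e0014001000100010001000120012000e000e001200100012001000120012001000100012000e00100010000e0010000e001000140010001000100012000e000e000e00120010001200100012000e00100010000e001200100010001200100012001000100014001000100012000e0012001200120010000e00100012001200100010000e000e00100010000e0010001200100010001000140010000e00120012001200120010001200100012001200100010001200120010001000120010001200100010001000100014]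

/-- the elements -/
noncomputable def cT (k : ℕ) : Co0 := pick 1 (cP.map el) k

theorem isM_h23 : IsM (permM alphaC) h23 := isM_perm inM24_alphaC
theorem isM_h11 : IsM (permM betaC) h11 := isM_perm inM24_betaC

theorem cP_ok : ∀ P ∈ cP, okM P = true ∧ mulM P (permM betaC) = mulM (permM betaC) P := by
  decide +kernel

theorem isM_cT (k : ℕ) : IsM (pick oneM cP k) (cT k) := by
  refine pick_rel isM_one ?_ k
  rw [List.forall₂_map_right_iff, List.forall₂_same]
  exact fun P hP => isM_el (cP_ok P hP).1

theorem cT_comm (k : ℕ) : cT k * h11 = h11 * cT k := by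
  refine pick_all (P := fun g => g * h11 = h11 * g) (by simp) (fun g hg => ?_) k
  obtain ⟨P, hP, rfl⟩ := List.mem_map.1 hg
  have h := isM_el (cP_ok P hP).1
  have h2 := isM_h11.mul h
  rw [← (cP_ok P hP).2] at h2
  exact (h.mul isM_h11).eq_el h2

theorem is11_U : Is11 vU (4, 4, 0, 0) := code_U.is11 (by decide +kernel)
theorem is11_UP : Is11 vUP (4, -4, 0, 0) := code_UP.is11 (by decide +kernel)
theorem is11_W : Is11 vW (1, -3, 1, 1) := code_W.is11 (by decide +kernel)
theorem is11_O : Is11 vO (-3, 1, 1, 1) := code_O.is11 (by decide +kernel)

/-- the minimal vectors fixed by the element of order 11 -/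
def L11 : List (ℤ × ℤ × ℤ × ℤ) := [(4, 4, 0, 0), (-3, 1, 1, 1), (1, -3, 1, 1), (4, -4, 0, 0),
  (3, 1, 1, -1), (1, 3, -1, 1), (-4, -4, 0, 0), (3, -1, -1, -1), (-1, 3, -1, -1), (-4, 4, 0, 0),
  (-3, -1, -1, 1), (-1, -3, 1, -1)]

theorem is11_cT : ∀ k < 6, Is11 (cT k • vU) (pick 0 L11 k) ∧
    Is11 ((negCo0 * cT k) • vU) (pick 0 L11 (6 + k)) := by
  have h : ∀ k < 6, force (app (matR (pick oneM cP k)) UC) (fun a => allLt 24 fun i =>
      decide ((dg a i : ℤ) - 16 = fv11 (pick 0 L11 k) i) &&
      decide ((dg (negC a) i : ℤ) - 16 = fv11 (pick 0 L11 (6 + k)) i)) = true := by decide +kernel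
  intro k hk
  have h1 := h k hk
  simp only [force_eq, allLt_iff, Bool.and_eq_true, decide_eq_true_eq] at h1
  have c := (isM_cT k).app code_U (by rw [norm_U]; norm_num)
  refine ⟨c.is11 fun i hi => (h1 i hi).1, ?_⟩
  rw [mul_smul, negCo0_smul]
  exact (c.neg (by rw [sqNorm_co0, norm_U]; norm_num)).is11 fun i hi => (h1 i hi).2

theorem mem_L11 {y : leechLattice} (hy : y ∈ Min) {q : ℤ × ℤ × ℤ × ℤ} (h : Is11 y q) : q ∈ L11 := by
  have n := h.dot h
  rw [dotInt_self, hy] at n
  have d1 := eight_dvd_dotInt vU.2 y.2
  have d2 := eight_dvd_dotInt vW.2 y.2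
  have d3 := eight_dvd_dotInt (cT 4 • vU).2 y.2
  rw [is11_U.dot h] at d1
  rw [is11_W.dot h] at d2
  rw [(is11_cT 4 (by norm_num)).1.dot h] at d3
  obtain ⟨a, b, s, t⟩ := q
  have e : pick 0 L11 4 = (3, 1, 1, -1) := rfl
  rw [e] at d3
  simp only at n d1 d2 d3
  have h1 : -1 ≤ s ∧ s ≤ 1 := by
    constructor <;> nlinarith [sq_nonneg a, sq_nonneg b, sq_nonneg t]
  have h2 : -1 ≤ t ∧ t ≤ 1 := by
    constructor <;> nlinarith [sq_nonneg a, sq_nonneg b, sq_nonneg s]
  have h3 : -5 ≤ a ∧ a ≤ 5 := by
    constructor <;> nlinarith [sq_nonneg s, sq_nonneg b, sq_nonneg t]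
  have h4 : -5 ≤ b ∧ b ≤ 5 := by
    constructor <;> nlinarith [sq_nonneg s, sq_nonneg a, sq_nonneg t]
  have key : ∀ s ∈ Finset.Icc (-1 : ℤ) 1, ∀ t ∈ Finset.Icc (-1 : ℤ) 1, ∀ a ∈ Finset.Icc (-5 : ℤ) 5,
      ∀ b ∈ Finset.Icc (-5 : ℤ) 5, 32 = a * a + b * b + 11 * (s * s) + 11 * (t * t) →
      8 ∣ 4 * a + 4 * b + 11 * (0 * s) + 11 * (0 * t) →
      8 ∣ 1 * a + -3 * b + 11 * (1 * s) + 11 * (1 * t) →
      8 ∣ 3 * a + 1 * b + 11 * (1 * s) + 11 * (-1 * t) → (a, b, s, t) ∈ L11 := by decide +kernel
  exact key s (Finset.mem_Icc.2 h1) t (Finset.mem_Icc.2 h2) a (Finset.mem_Icc.2 h3) b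
    (Finset.mem_Icc.2 h4) n d1 d2 d3

/-- the involution `x ↦ -1/x` -/
noncomputable def hγ : Co0 := permHom ⟨permOf gammaC, permOf_mem_M24 inM24_gammaC⟩
/-- the element of order 5 -/
noncomputable def hδ : Co0 := permHom ⟨permOf deltaC, permOf_mem_M24 inM24_deltaC⟩

theorem isM_hγ : IsM (permM gammaC) hγ := isM_perm inM24_gammaC
theorem isM_hδ : IsM (permM deltaC) hδ := isM_perm inM24_deltaC

theorem hγ_U : hγ • vU = vU :=
  isM_hγ.isR.smul_eq code_U code_U (by rw [norm_U]; norm_num) (by decide +kernel)
theorem hγ_O : hγ • vO = vW :=
  isM_hγ.isR.smul_eq code_O code_W (by rw [norm_O]; norm_num) (by decide +kernel)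
theorem hγ_UP : hγ • vUP = -vUP :=
  isM_hγ.isR.smul_eq code_UP (code_UP.neg (by rw [norm_UP]; norm_num)) (by rw [norm_UP]; norm_num)
    (by decide +kernel)

theorem h11_fix : h11 • vU = vU ∧ h11 • vW = vW ∧ h11 • vUP = vUP := by
  have := h11_mem
  rw [← stab_UWUP] at this
  exact ⟨this.1.1, this.1.2, this.2⟩

theorem cent_h11_U {g : Co0} (e : g * h11 = h11 * g) (h : g • vU = vU) : ∃ i < 11, g = h11 ^ i := by
  obtain ⟨q, hq⟩ := exists_is11 (fix_of_comm e h11_fix.2.1)
  obtain ⟨r, hr⟩ := exists_is11 (fix_of_comm e h11_fix.2.2)
  have a1 := (dot_of_fix h vW).trans dot_UW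
  have a2 := (dot_of_fix h vUP).trans dot_UUP
  have a3 := (dotInt_co0 g vW vUP).trans dot_WUP
  rw [is11_U.dot hq] at a1
  rw [is11_U.dot hr] at a2
  rw [hq.dot hr] at a3
  have key : ∀ q ∈ L11, ∀ r ∈ L11,
      4 * q.1 + 4 * q.2.1 + 11 * (0 * q.2.2.1) + 11 * (0 * q.2.2.2) = -8 →
      4 * r.1 + 4 * r.2.1 + 11 * (0 * r.2.2.1) + 11 * (0 * r.2.2.2) = 0 →
      q.1 * r.1 + q.2.1 * r.2.1 + 11 * (q.2.2.1 * r.2.2.1) + 11 * (q.2.2.2 * r.2.2.2) = 16 →
      (q = (1, -3, 1, 1) ∧ r = (4, -4, 0, 0)) ∨ (q = (-3, 1, 1, 1) ∧ r = (-4, 4, 0, 0)) := by
    decide +kernel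
  have hσ : ∃ σ : M24, permHom σ = g := by
    rcases key q (mem_L11 (smul_mem_Min g norm_W) hq) r (mem_L11 (smul_mem_Min g norm_UP) hr)
      a1 a2 a3 with ⟨rfl, rfl⟩ | ⟨rfl, rfl⟩
    · have : g ∈ permSub Spor.M22 := stab_UWUP ▸ ⟨⟨h, hq.eq is11_W⟩, hr.eq is11_UP⟩
      obtain ⟨σ, -, e⟩ := this
      exact ⟨σ, e⟩
    · have b : g • vUP = -vUP := hr.eq ((code_UP.neg (by rw [norm_UP]; norm_num)).is11
        (by decide +kernel))
      have : hγ * g ∈ permSub Spor.M22 := stab_UWUP ▸ ⟨⟨mem_Stab.2 (by rw [mul_smul, h, hγ_U]),
        mem_Stab.2 (by rw [mul_smul, hq.eq is11_O, hγ_O])⟩,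
        mem_Stab.2 (by rw [mul_smul, b, smul_neg, hγ_UP, neg_neg])⟩
      obtain ⟨σ, -, e⟩ := this
      exact ⟨(⟨permOf gammaC, permOf_mem_M24 inM24_gammaC⟩ : M24)⁻¹ * σ, by
        rw [map_mul, map_inv, e, ← hγ, inv_mul_cancel_left]⟩
  obtain ⟨σ, rfl⟩ := hσ
  obtain ⟨i, hi, e1⟩ := cent_beta σ.2 (comm_of_permHom e)
  refine ⟨i, hi, ?_⟩
  rw [h11, ← map_pow]
  exact congrArg permHom (Subtype.ext e1)

theorem cent_h11_of {g t : Co0} (e : g * h11 = h11 * g) (ht : t * h11 = h11 * t)
    (h : g • vU = t • vU) : ∃ i < 11, g = t * h11 ^ i := by
  obtain ⟨i, hi, e1⟩ := cent_h11_U (g := t⁻¹ * g)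
    (by rw [mul_assoc, e, ← mul_assoc, ← mul_assoc, (show Commute t h11 from ht).inv_left.eq])
    (by rw [mul_smul, h, inv_smul_smul])
  exact ⟨i, hi, by rw [← e1, mul_inv_cancel_left]⟩

/-- the centraliser of the element of order 11 -/
theorem cent_h11 {g : Co0} (e : g * h11 = h11 * g) :
    ∃ k < 6, ∃ i < 11, mk1 g = mk1 (cT k * h11 ^ i) := by
  obtain ⟨q, hq⟩ := exists_is11 (fix_of_comm e h11_fix.1)
  have key : ∀ q ∈ L11, ∃ k < 6, q = pick 0 L11 k ∨ q = pick 0 L11 (6 + k) := by decide +kernel
  obtain ⟨k, hk, rfl | rfl⟩ := key q (mem_L11 (smul_mem_Min g norm_U) hq)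
  · obtain ⟨i, hi, e1⟩ := cent_h11_of e (cT_comm k) (hq.eq (is11_cT k hk).1)
    exact ⟨k, hk, i, hi, by rw [e1]⟩
  · obtain ⟨i, hi, e1⟩ := cent_h11_of (t := negCo0 * cT k) e
      (by rw [mul_assoc, cT_comm, ← mul_assoc, ← neg_comm, mul_assoc]) (hq.eq (is11_cT k hk).2)
    exact ⟨k, hk, i, hi, by rw [e1, mul_assoc, mk1_neg]⟩

theorem cent_h11_UP {g : Co0} (e : g * h11 = h11 * g) (h : g • vUP = vUP) :
    ∃ i < 11, g = h11 ^ i := by
  have a : cT 3 • vU = vUP := (is11_cT 3 (by norm_num)).1.eq is11_UP
  have c : Commute (cT 3) h11 := cT_comm 3
  obtain ⟨i, hi, e1⟩ := cent_h11_of (g := g * cT 3)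
    (by rw [mul_assoc, c.eq, ← mul_assoc, e, mul_assoc]) c (by rw [mul_smul, a, h])
  exact ⟨i, hi, mul_right_cancel (e1.trans (c.pow_right i).eq)⟩

theorem eqns_Word : True := by
  have := @wd.eq_1.{0}
  have := @pick.eq_1.{0}
  have := @IsF.eq_1
  have := @wF.eq_1
  have := @itF.eq_1
  have := @letF.eq_1
  have := @letR.eq_1
  have := @eqM.eq_1
  have := @holds.eq_1
  have := @fails.eq_1
  have := @TV.eq_1
  have := @relF.eq_1
  have := @covOk.eq_1
  have := @fv11.eq_1
  have := @Is11.eq_1
  have := @cP.eq_1
  have := @cT.eq_1
  have := @L11.eq_1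
  have := @hγ.eq_1
  have := @hδ.eq_1
  have := @mk1.eq_1
  exact True.intro


end H16
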