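import Mathlib
import Cfsg.Agent.Lib.Leech.Dig
import Cfsg.Agent.Lib.Leech.Shape

/-! Codes for lattice vectors (24 digits `x_i + 16` in base 65536) and for elements of `Co0`
(576 digits: the images of the vectors `8 e_i`), with kernel tests. -/

set_option autoImplicit false
set_option exponentiation.threshold 700

namespace H16

open Cfsg Finset H15

theorem sum_pt {M : Type*} [AddCommMonoid M] (f : GolayPt → M) :
    ∑ p, f p = ∑ i ∈ range 24, f (pt i) := by
  rw [← Fin.sum_univ_eq_sum_range (fun i => f (pt i)) 24]
  exact (Fintype.sum_equiv ptEquiv.symm _ _ fun _ => rfl).symm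

/-- the vector with code `c` -/
def vec (c : ℕ) : GolayPt → ℤ := fun p => (dg c (idx p) : ℤ) - 16

theorem vec_apply (c : ℕ) (p : GolayPt) : vec c p = (dg c (idx p) : ℤ) - 16 := rfl

theorem vec_pt (c : ℕ) {i : ℕ} (hi : i < 24) : vec c (pt i) = (dg c i : ℤ) - 16 := by
  rw [vec_apply, idx_pt hi]

/-- `a` is the code of the lattice vector `v` -/
def Code (a : ℕ) (v : leechLattice) : Prop := a < 65536 ^ 24 ∧ vec a = (v : GolayPt → ℤ)

theorem Code.dg_eq {a : ℕ} {v : leechLattice} (h : Code a v) {i : ℕ} (hi : i < 24) :
    (dg a i : ℤ) - 16 = (v : GolayPt → ℤ) (pt i) := by rw [← h.2, vec_pt a hi]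

theorem Code.ev_eq {a : ℕ} {v : leechLattice} (h : Code a v) :
    (a : ℤ) = ev 24 (fun i => (v : GolayPt → ℤ) (pt i) + 16) := by
  rw [ev_dg_of_lt h.1]
  exact ev_congr fun i hi => by rw [← h.dg_eq hi]; ring

theorem Code.eq_code {a b : ℕ} {v : leechLattice} (ha : Code a v) (hb : Code b v) : a = b := by
  have : (a : ℤ) = b := by rw [ha.ev_eq, hb.ev_eq]
  exact_mod_cast this

theorem Code.eq_vec {a : ℕ} {v w : leechLattice} (hv : Code a v) (hw : Code a w) : v = w :=
  Subtype.ext (hv.2.symm.trans hw.2)

theorem Code.ne_vec {a b : ℕ} {v w : leechLattice} (hv : Code a v) (hw : Code b w) (h : a ≠ b) :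
    v ≠ w := fun e => h (hv.eq_code (e ▸ hw))

theorem abs_le_of_norm {x : GolayPt → ℤ} {k : ℤ} (hk : 0 ≤ k) (h : sqNorm x ≤ k ^ 2) (p : GolayPt) :
    -k ≤ x p ∧ x p ≤ k := abs_le_of_sq_le_sq' (le_trans (sq_le_sqNorm x p) h) hk

theorem code_of_ev {a : ℕ} {v : leechLattice} (hn : sqNorm (v : GolayPt → ℤ) ≤ 256)
    (h : (a : ℤ) = ev 24 (fun i => (v : GolayPt → ℤ) (pt i) + 16)) : Code a v := by
  obtain ⟨h1, h2⟩ := lt_of_ev h fun i _ => by
    have := abs_le_of_norm (k := 16) (by norm_num) hn (pt i)
    omega
  refine ⟨h1, funext fun p => ?_⟩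
  rw [vec_apply, h2 _ (idx_lt p), pt_idx]; ring

/-- the code of a (short) vector -/
noncomputable def cod (v : leechLattice) : ℕ := (ev 24 fun i => (v : GolayPt → ℤ) (pt i) + 16).toNat

theorem Code.cod_eq {a : ℕ} {v : leechLattice} (h : Code a v) : cod v = a := by
  unfold cod; rw [← h.ev_eq, Int.toNat_natCast]

theorem code_cod {v : leechLattice} (hn : sqNorm (v : GolayPt → ℤ) ≤ 256) : Code (cod v) v := by
  refine code_of_ev hn (Int.toNat_of_nonneg (ev_nonneg fun i _ => ?_))
  have := abs_le_of_norm (k := 16) (by norm_num) hn (pt i)
  omega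

/-- kernel test: `c` is the code of a lattice vector -/
def isV (c : ℕ) : Bool :=
  Nat.blt c 0x1000000000000000000000000000000000000000000000000000000000000000000000000000000000000000000000000 &&
  (allLt 24 (fun i => Nat.beq (Nat.mod (dg c i) 2) (Nat.mod c 2)) &&
  (isCode (maskF (fun i => Nat.ble 2 (Nat.mod (dg c i) 4)) 24) &&
  Nat.beq (Nat.mod (sumLt 24 (dg c)) 8) (Nat.mul 4 (Nat.mod c 2))))

theorem isV_spec {c : ℕ} (h : isV c = true) : c < 65536 ^ 24 ∧ vec c ∈ leechLattice := by
  unfold isV at h
  have hm : ∀ a b : ℕ, Nat.mod a b = a % b := fun _ _ => rfl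
  simp only [Bool.and_eq_true, Nat.blt_eq, allLt_iff, Nat.beq_eq, hm, Nat.mul_eq] at h
  obtain ⟨h1, h2, h3, h4⟩ := h
  refine ⟨lt_of_lt_of_eq h1 (by decide +kernel), ?_⟩
  refine Cong.mem (m := ((c % 2 : ℕ) : ℤ)) ⟨fun p => ?_, ?_⟩ (ofMask_mem_of_isCode h3)
  · have := h2 _ (idx_lt p)
    rw [vec_apply, ind_apply]
    simp only [mem_ofMask, testBit_maskF, idx_lt p, decide_true, Bool.true_and, Nat.ble_eq]
    split_ifs <;> omega
  · rw [sum_pt, Finset.sum_congr rfl fun i hi => vec_pt c (Finset.mem_range.1 hi),
      Finset.sum_sub_distrib, ← Nat.cast_sum, ← sumLt_eq, Finset.sum_const, Finset.card_range]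
    simp only [nsmul_eq_mul, Nat.cast_ofNat]
    omega

open Classical in
/-- the lattice vector with code `c` -/
noncomputable def lv (c : ℕ) : leechLattice := if h : vec c ∈ leechLattice then ⟨vec c, h⟩ else 0

theorem code_lv {c : ℕ} (h : isV c = true) : Code c (lv c) := by
  refine ⟨(isV_spec h).1, ?_⟩
  unfold lv; rw [dif_pos (isV_spec h).2]

theorem coe_lv {c : ℕ} (h : isV c = true) : ((lv c : leechLattice) : GolayPt → ℤ) = vec c :=
  (code_lv h).2.symm

theorem Code.lv_eq {a : ℕ} {v : leechLattice} (h : Code a v) : lv a = v := by
  apply Subtype.ext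
  unfold lv; rw [dif_pos (h.2 ▸ v.2)]; exact h.2

/-- inner product of two coded vectors -/
def dotC (a b : ℕ) : ℤ :=
  Int.subNatNat (Nat.add 6144 (sumLt 24 fun i => Nat.mul (dg a i) (dg b i)))
    (Nat.mul 16 (Nat.add (sumLt 24 (dg a)) (sumLt 24 (dg b))))

theorem dotInt_vec (a b : ℕ) : dotInt (vec a) (vec b) = dotC a b := by
  unfold dotC
  rw [Int.subNatNat_eq_coe, dotInt_def, sum_pt,
    Finset.sum_congr rfl fun i hi => by
      rw [vec_pt a (Finset.mem_range.1 hi), vec_pt b (Finset.mem_range.1 hi)]]
  simp only [sumLt_eq, Nat.add_eq, Nat.mul_eq]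
  push_cast
  rw [mul_add, Finset.mul_sum, Finset.mul_sum,
    show (6144 : ℤ) = ∑ _i ∈ range 24, (256 : ℤ) by simp, ← Finset.sum_add_distrib,
    ← Finset.sum_add_distrib, ← Finset.sum_sub_distrib]
  exact Finset.sum_congr rfl fun i _ => by ring

theorem Code.dot {a b : ℕ} {v w : leechLattice} (hv : Code a v) (hw : Code b w) :
    dotInt (v : GolayPt → ℤ) (w : GolayPt → ℤ) = dotC a b := by
  rw [← hv.2, ← hw.2, dotInt_vec]

theorem Code.norm {a : ℕ} {v : leechLattice} (hv : Code a v) :
    sqNorm (v : GolayPt → ℤ) = dotC a a := by rw [← dotInt_self, hv.dot hv]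

/-- code of the negative -/
def negC (a : ℕ) : ℕ := Nat.sub 0x2000200020002000200020002000200020002000200020002000200020002000200020002000200020002000200020 a
/-- code of the sum -/
def addC (a b : ℕ) : ℕ := Nat.sub (Nat.add a b) OFF
/-- code of the difference -/
def subC (a b : ℕ) : ℕ := Nat.sub (Nat.add a OFF) b
/-- code of `8 e_i` -/
def e8C (i : ℕ) : ℕ := Nat.add OFF (Nat.shiftLeft 8 (Nat.mul 16 i))

theorem code_of_sub {a b : ℕ} {v : leechLattice} (hn : sqNorm (v : GolayPt → ℤ) ≤ 256)
    (h : (a : ℤ) - b = ev 24 (fun i => (v : GolayPt → ℤ) (pt i) + 16)) : Code (Nat.sub a b) v := by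
  have h0 : 0 ≤ ev 24 (fun i => (v : GolayPt → ℤ) (pt i) + 16) := ev_nonneg fun i _ => by
    have := abs_le_of_norm (k := 16) (by norm_num) hn (pt i)
    omega
  refine code_of_ev hn ?_
  rw [← h, Nat.sub_eq, Nat.cast_sub (by omega)]

theorem Code.neg {a : ℕ} {v : leechLattice} (h : Code a v) (hn : sqNorm (v : GolayPt → ℤ) ≤ 256) :
    Code (negC a) (-v) := by
  refine code_of_sub (by rwa [AddSubgroup.coe_neg, sqNorm_neg]) ?_
  rw [h.ev_eq, show ((0x2000200020002000200020002000200020002000200020002000200020002000200020002000200020002000200020 : ℕ) : ℤ) = ev 24 (fun _ => 32) by decide +kernel, ← ev_sub]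
  exact ev_congr fun i _ => by simp only [AddSubgroup.coe_neg, Pi.neg_apply]; ring

theorem Code.add {a b : ℕ} {v w : leechLattice} (hv : Code a v) (hw : Code b w)
    (hn : sqNorm ((v + w : leechLattice) : GolayPt → ℤ) ≤ 256) : Code (addC a b) (v + w) := by
  refine code_of_sub hn ?_
  rw [Nat.add_eq, Nat.cast_add, hv.ev_eq, hw.ev_eq, OFF_eq, ← ev_add, ← ev_sub]
  exact ev_congr fun i _ => by simp only [AddSubgroup.coe_add, Pi.add_apply]; ring

theorem Code.sub {a b : ℕ} {v w : leechLattice} (hv : Code a v) (hw : Code b w)
    (hn : sqNorm ((v - w : leechLattice) : GolayPt → ℤ) ≤ 256) : Code (subC a b) (v - w) := by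
  refine code_of_sub hn ?_
  rw [Nat.add_eq, Nat.cast_add, hv.ev_eq, hw.ev_eq, OFF_eq, ← ev_add, ← ev_sub]
  exact ev_congr fun i _ => by simp only [AddSubgroup.coe_sub, Pi.sub_apply]; ring

theorem code_e8C {i : ℕ} (hi : i < 24) : Code (e8C i) (e8 (pt i)) := by
  have h : ∀ i < 24, e8C i < 65536 ^ 24 ∧ ∀ p : GolayPt,
      vec (e8C i) p = if p = pt i then 8 else 0 := by decide +kernel
  refine ⟨(h i hi).1, funext fun p => ?_⟩
  rw [(h i hi).2 p, coe_e8, Pi.single_apply]

/-! ### matrices -/

/-- multiplier of the matrix with code `P` -/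
def matR (P : ℕ) : ℕ := mkR fun j i => dg P (Nat.add (Nat.mul 24 i) j)
/-- multiplier of the transposed matrix -/
def matT (P : ℕ) : ℕ := mkR fun j i => dg P (Nat.add (Nat.mul 24 j) i)
/-- column `i` -/
def col (P i : ℕ) : ℕ := Nat.mod (Nat.shiftRight P (Nat.mul 384 i)) 0x1000000000000000000000000000000000000000000000000000000000000000000000000000000000000000000000000
/-- apply the element with multiplier `R` to the vector with code `a` -/
def app (R a : ℕ) : ℕ := Nat.shiftRight (raw K128 R a) 3
/-- the matrix code with the given column codes -/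
def packM (c : ℕ → ℕ) : ℕ := sumLt 24 fun i => Nat.shiftLeft (c i) (Nat.mul 384 i)

theorem col_eq (P i : ℕ) : col P i = P / 65536 ^ (24 * i) % 65536 ^ 24 := by
  have h1 : Nat.shiftRight P (Nat.mul 384 i) = P / 2 ^ (384 * i) := Nat.shiftRight_eq_div_pow _ _
  unfold col
  rw [h1, pow_mul, pow_mul, show (2 : ℕ) ^ 384 = 65536 ^ 24 by decide +kernel,
    show (0x1000000000000000000000000000000000000000000000000000000000000000000000000000000000000000000000000 : ℕ) = 65536 ^ 24 by decide +kernel]
  rfl

theorem col_lt (P i : ℕ) : col P i < 65536 ^ 24 := by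
  rw [col_eq]; exact Nat.mod_lt _ (by positivity)

theorem dg_col (P i : ℕ) {j : ℕ} (hj : j < 24) : dg (col P i) j = dg P (24 * i + j) := by
  rw [col_eq, dg_mod hj, dg_add]

/-- `P` is the code of `g` -/
def IsM (P : ℕ) (g : Co0) : Prop :=
  P < 65536 ^ 576 ∧ ∀ i < 24, Code (col P i) (g • e8 (pt i))

/-- `R` is the multiplier of `g` -/
def IsR (R : ℕ) (g : Co0) : Prop := ∃ P, IsM P g ∧ R = matR P

theorem IsM.isR {P : ℕ} {g : Co0} (h : IsM P g) : IsR (matR P) g := ⟨P, h, rfl⟩

theorem IsM.entry {P : ℕ} {g : Co0} (h : IsM P g) {i j : ℕ} (hi : i < 24) (hj : j < 24) :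
    (dg P (24 * i + j) : ℤ) - 16 = ((g • e8 (pt i) : leechLattice) : GolayPt → ℤ) (pt j) := by
  rw [← dg_col P i hj, (h.2 i hi).dg_eq hj]

theorem IsM.eq_el {P : ℕ} {g h : Co0} (hg : IsM P g) (hh : IsM P h) : g = h :=
  co0_ext (forall_pt.2 fun i hi => (hg.2 i hi).eq_vec (hh.2 i hi))

theorem IsM.eq_code {P Q : ℕ} {g : Co0} (hP : IsM P g) (hQ : IsM Q g) : P = Q := by
  refine eq_of_dg hP.1 hQ.1 fun p hp => ?_
  have h1 := hP.entry (i := p / 24) (j := p % 24) (by omega) (by omega)
  have h2 := hQ.entry (i := p / 24) (j := p % 24) (by omega) (by omega)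
  rw [Nat.div_add_mod] at h1 h2
  omega

theorem IsM.ne_el {P Q : ℕ} {g h : Co0} (hg : IsM P g) (hh : IsM Q h) (e : P ≠ Q) : g ≠ h :=
  fun e' => e (hg.eq_code (e' ▸ hh))

theorem IsR.app {R : ℕ} {g : Co0} (h : IsR R g) {a : ℕ} {v : leechLattice} (hv : Code a v)
    (hn : sqNorm (v : GolayPt → ℤ) ≤ 256) : Code (app R a) (g • v) := by
  obtain ⟨P, h, hR⟩ := h
  rw [hR]
  have hn' : sqNorm ((g • v : leechLattice) : GolayPt → ℤ) ≤ 256 := by rwa [sqNorm_co0]
  have hs : ∀ j < 24, ∑ i ∈ range 24, ((dg P (Nat.add (Nat.mul 24 i) j) : ℤ) - 16) * ((dg a i : ℤ) - 16) =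
      8 * ((g • v : leechLattice) : GolayPt → ℤ) (pt j) := by
    intro j hj
    rw [eight_mul_co0, sum_pt]
    refine Finset.sum_congr rfl fun i hi => ?_
    rw [← h.entry (Finset.mem_range.1 hi) hj, hv.dg_eq (Finset.mem_range.1 hi), mul_comm]
    rfl
  have e := raw_eq isK128 (by norm_num) (e := fun j i => dg P (Nat.add (Nat.mul 24 i) j))
    (fun j hj i hi => by
      have h1 := h.entry hi hj
      have h2 := abs_le_of_norm (x := ((g • e8 (pt i) : leechLattice) : GolayPt → ℤ)) (k := 8)
        (by norm_num) (by rw [sqNorm_co0, sqNorm_e8]; norm_num) (pt j)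
      show dg P (24 * i + j) ≤ 32
      omega) hv.1
    (fun i hi => by
      have h1 := hv.dg_eq hi
      have h2 := abs_le_of_norm (k := 16) (by norm_num) hn (pt i)
      omega)
    (fun j hj => by
      have h2 := abs_le_of_norm (k := 16) (by norm_num) hn' (pt j)
      rw [hs j hj]; omega)
  refine code_of_ev hn' ?_
  have e2 : (raw K128 (matR P) a : ℤ) =
      8 * ev 24 (fun i => ((g • v : leechLattice) : GolayPt → ℤ) (pt i) + 16) := by
    rw [← ev_mul]
    exact e.trans (ev_congr fun j hj => by rw [hs j hj]; ring)
  have e3 : H16.app (matR P) a = raw K128 (matR P) a / 8 := Nat.shiftRight_eq_div_pow _ 3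
  rw [e3]
  omega

theorem IsM.app {P : ℕ} {g : Co0} (h : IsM P g) {a : ℕ} {v : leechLattice} (hv : Code a v)
    (hn : sqNorm (v : GolayPt → ℤ) ≤ 256) : Code (app (matR P) a) (g • v) := h.isR.app hv hn

/-- the action on two coded vectors -/
theorem IsR.smul_eq {R : ℕ} {g : Co0} (h : IsR R g) {a b : ℕ} {v w : leechLattice} (hv : Code a v)
    (hw : Code b w) (hn : sqNorm (v : GolayPt → ℤ) ≤ 256) (e : H16.app R a = b) : g • v = w :=
  (e ▸ h.app hv hn).eq_vec hw

theorem isM_packM {c : ℕ → ℕ} {g : Co0} (h : ∀ i < 24, Code (c i) (g • e8 (pt i))) :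
    IsM (packM c) g := by
  have e : (packM c : ℤ) = ev 576 (fun q => (dg (c (q / 24)) (q % 24) : ℤ)) := by
    unfold packM ev
    rw [show 576 = 24 * 24 from rfl, sum_range_mul', sumLt_eq, Nat.cast_sum]
    refine Finset.sum_congr rfl fun i hi => ?_
    have e3 : Nat.shiftLeft (c i) (Nat.mul 384 i) = c i * 2 ^ (384 * i) := Nat.shiftLeft_eq _ _
    rw [e3, pow_mul, show (2 : ℕ) ^ 384 = 65536 ^ 24 by decide +kernel, ← pow_mul, Nat.cast_mul,
      ev_dg_of_lt (h i (Finset.mem_range.1 hi)).1]
    unfold ev
    rw [Finset.sum_mul]
    refine Finset.sum_congr rfl fun j hj => ?_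
    have hj' := Finset.mem_range.1 hj
    have e1 : (24 * i + j) / 24 = i := by omega
    have e2 : (24 * i + j) % 24 = j := by omega
    beta_reduce
    rw [e1, e2, pow_add, Nat.cast_pow, Nat.cast_ofNat]
    ring
  obtain ⟨h1, h2⟩ := lt_of_ev e fun p _ => ⟨Int.natCast_nonneg _, by exact_mod_cast dg_lt _ _⟩
  refine ⟨h1, fun i hi => ?_⟩
  have : col (packM c) i = c i := by
    refine eq_of_dg (col_lt _ _) (h i hi).1 fun j hj => ?_
    have h3 := h2 (24 * i + j) (by omega)
    have e1 : (24 * i + j) / 24 = i := by omega
    have e2 : (24 * i + j) % 24 = j := by omega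
    rw [e1, e2] at h3
    rw [dg_col _ _ hj]
    exact_mod_cast h3
  rw [this]; exact h i hi

/-- product of the element with multiplier `R` and the element with code `Q` -/
def mulR (R Q : ℕ) : ℕ := packM fun i => app R (col Q i)
/-- product of two coded elements -/
def mulM (P Q : ℕ) : ℕ := mulR (matR P) Q
/-- code of the identity -/
def oneM : ℕ := 0x1800100010001000100010001000100010001000100010001000100010001000100010001000100010001000100010001000180010001000100010001000100010001000100010001000100010001000100010001000100010001000100010001000100018001000100010001000100010001000100010001000100010001000100010001000100010001000100010001000100010001800100010001000100010001000100010001000100010001000100010001000100010001000100010001000100010001000180010001000100010001000100010001000100010001000100010001000100010001000100010001000100010001000100018001000100010001000100010001000100010001000100010001000100010001000100010001000100010001000100010001800100010001000100010001000100010001000100010001000100010001000100010001000100010001000100010001000180010001000100010001000100010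001000100010001000100010001000100010001000100010001000100010001000100018001000100010001000100010001000100010001000100010001000100010001000100010001000100010001000100010001800100010001000100010001000100010001000100010001000100010001000100010001000100010001000100010001000180010001000100010001000100010001000100010001000100010001000100010001000100010001000100010001000100018001000100010001000100010001000100010001000100010001000100010001000100010001000100010001000100010001800100010001000100010001000100010001000100010001000100010001000100010001000100010001000100010001000180010001000100010001000100010001000100010001000100010001000100010001000100010001000100010001000100018001000100010001000100010001000100010001000100010001000100010001000100010001000100010001000100010001800100010001000100010001000100010001000100010001000100010001000100010001000100010001000100010001000180010001000100010001000100010001000100010001000100010001000100010001000100010001000100010001000100018001000100010001000100010001000100010001000100010001000100010001000100010001000100010001000100010001800100010001000100010001000100010001000100010001000100010001000100010001000100010001000100010001000180010001000100010001000100010001000100010001000100010001000100010001000100010001000100010001000100018001000100010001000100010001000100010001000100010001000100010001000100010001000100010001000100010001800100010001000100010001000100010001000100010001000100010001000100010001000100010001000100010001000180010001000100010001000100010001000100010001000100010001000100010001000100010001000100010001000100018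
/-- code of the negation -/
def negM : ℕ := 0x80010001000100010001000100010001000100010001000100010001000100010001000100010001000100010001000100008001000100010001000100010001000100010001000100010001000100010001000100010001000100010001000100010000800100010001000100010001000100010001000100010001000100010001000100010001000100010001000100010001000080010001000100010001000100010001000100010001000100010001000100010001000100010001000100010001000100008001000100010001000100010001000100010001000100010001000100010001000100010001000100010001000100010000800100010001000100010001000100010001000100010001000100010001000100010001000100010001000100010001000080010001000100010001000100010001000100010001000100010001000100010001000100010001000100010001000100008001000100010001000100010001000100010001000100010001000100010001000100010001000100010001000100010000800100010001000100010001000100010001000100010001000100010001000100010001000100010001000100010001000080010001000100010001000100010001000100010001000100010001000100010001000100010001000100010001000100008001000100010001000100010001000100010001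0001000100010001000100010001000100010001000100010001000100008001000100010001000100010001000100010001000100010001000100010001000100010001000100010001000100010000800100010001000100010001000100010001000100010001000100010001000100010001000100010001000100010001000080010001000100010001000100010001000100010001000100010001000100010001000100010001000100010001000100008001000100010001000100010001000100010001000100010001000100010001000100010001000100010001000100010000800100010001000100010001000100010001000100010001000100010001000100010001000100010001000100010001000080010001000100010001000100010001000100010001000100010001000100010001000100010001000100010001000100008001000100010001000100010001000100010001000100010001000100010001000100010001000100010001000100010000800100010001000100010001000100010001000100010001000100010001000100010001000100010001000100010001000080010001000100010001000100010001000100010001000100010001000100010001000100010001000100010001000100008001000100010001000100010001000100010001000100010001000100010001000100010001000100010001000100010000800100010001000100010001000100010001000100010001000100010001000100010001000100010001000100010001000080010001000100010001000100010001000100010001000100010001000100010001000100010001000100010001000100008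
/-- code of a coordinate permutation -/
def permM (c : ℕ) : ℕ := packM fun i => e8C (ap c i)
/-- code of a sign change -/
def epsM (m : ℕ) : ℕ := packM fun i => Bool.rec (e8C i) (negC (e8C i)) (bit m i)
/-- code of the inverse (transpose) -/
def invM (P : ℕ) : ℕ :=
  packM fun i => sumLt 24 fun j => Nat.shiftLeft (dg P (Nat.add (Nat.mul 24 j) i)) (Nat.mul 16 j)
/-- code of a power of the element with multiplier `R` -/
def powR (R n : ℕ) : ℕ := Nat.rec oneM (fun _ ih => force ih (mulR R)) n

theorem IsR.mul {R Q : ℕ} {g h : Co0} (hg : IsR R g) (hh : IsM Q h) : IsM (mulR R Q) (g * h) :=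
  isM_packM fun i hi => by
    rw [mul_smul]
    exact hg.app (hh.2 i hi) (by rw [sqNorm_co0, sqNorm_e8]; norm_num)

theorem IsM.mul {P Q : ℕ} {g h : Co0} (hg : IsM P g) (hh : IsM Q h) : IsM (mulM P Q) (g * h) :=
  hg.isR.mul hh

theorem isM_one : IsM oneM 1 := by
  rw [show oneM = packM e8C by decide +kernel]
  exact isM_packM fun i hi => by rw [one_smul]; exact code_e8C hi

theorem isM_neg : IsM negM negCo0 := by
  rw [show negM = packM (fun i => negC (e8C i)) by decide +kernel]
  exact isM_packM fun i hi => by
    rw [negCo0_smul]; exact (code_e8C hi).neg (by rw [sqNorm_e8]; norm_num)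

theorem isM_perm {c : ℕ} (h : inM24 c = true) :
    IsM (permM c) (permHom ⟨permOf c, permOf_mem_M24 h⟩) :=
  isM_packM fun i hi => by
    rw [permHom_smul_e8]
    show Code _ (e8 (permOf c (pt i)))
    rw [permOf_pt (okP_of_inM24 h) hi]
    exact code_e8C (ap_lt (okP_of_inM24 h) hi)

theorem isM_eps {m : ℕ} (h : isCode m = true) :
    IsM (epsM m) (eps (ofMask m) (ofMask_mem_of_isCode h)) :=
  isM_packM fun i hi => by
    rw [eps_smul_e8, bit_eq]
    by_cases hb : m.testBit i = true
    · rw [if_pos ((pt_mem_ofMask hi).2 hb), hb]
      exact (code_e8C hi).neg (by rw [sqNorm_e8]; norm_num)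
    · rw [if_neg (fun h' => hb ((pt_mem_ofMask hi).1 h')), (Bool.not_eq_true _).mp hb]
      exact code_e8C hi

theorem IsM.inv {P : ℕ} {g : Co0} (h : IsM P g) : IsM (invM P) g⁻¹ :=
  isM_packM fun i hi => by
    refine code_of_ev (by rw [sqNorm_co0, sqNorm_e8]; norm_num) ?_
    rw [sumLt_eq, Nat.cast_sum]
    refine Finset.sum_congr rfl fun j hj => ?_
    have hj' := Finset.mem_range.1 hj
    have e3 : Nat.shiftLeft (dg P (Nat.add (Nat.mul 24 j) i)) (Nat.mul 16 j) =
        dg P (24 * j + i) * 2 ^ (16 * j) := Nat.shiftLeft_eq _ _
    have h1 := h.entry hj' hi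
    have h2 := dotInt_co0_left g (e8 (pt j)) (e8 (pt i))
    rw [coe_e8, coe_e8, dotInt_single_left, dotInt_single_right] at h2
    have h3 : ((g⁻¹ • e8 (pt i) : leechLattice) : GolayPt → ℤ) (pt j) + 16 = dg P (24 * j + i) := by
      omega
    beta_reduce
    rw [e3, h3, pow_mul]
    push_cast
    rfl

theorem IsR.pow {R : ℕ} {g : Co0} (h : IsR R g) (n : ℕ) : IsM (powR R n) (g ^ n) := by
  induction n with
  | zero =>
    have : powR R 0 = oneM := rfl
    rw [pow_zero, this]; exact isM_one
  | succ n ih =>
    rw [pow_succ']
    have : powR R (n + 1) = force (powR R n) (mulR R) := rfl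
    rw [this, force_eq]; exact h.mul ih

theorem eqns_Vec : True := by
  have := @vec.eq_1
  have := @Code.eq_1
  have := @cod.eq_1
  have := @isV.eq_1
  have := @lv.eq_1
  have := @dotC.eq_1
  have := @negC.eq_1
  have := @addC.eq_1
  have := @subC.eq_1
  have := @e8C.eq_1
  have := @matR.eq_1
  have := @matT.eq_1
  have := @col.eq_1
  have := @app.eq_1
  have := @packM.eq_1
  have := @IsM.eq_1
  have := @IsR.eq_1
  have := @mulR.eq_1
  have := @mulM.eq_1
  have := @oneM.eq_1
  have := @negM.eq_1
  have := @permM.eq_1
  have := @epsM.eq_1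
  have := @invM.eq_1
  have := @powR.eq_1
  exact True.intro

end H16
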