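import Mathlib
import Cfsg.Agent.Lib.Leech.Vec
import Cfsg.Agent.Lib.CGT.Orbit

/-! Kernel test `okM` for a matrix code to define an element `el P` of `Co0`; kernel walks through
orbits of lattice vectors. -/

set_option autoImplicit false
set_option exponentiation.threshold 700

namespace H16

open Cfsg Finset H15

/-- 576 digits 31 -/
def M31 : ℕ := 0x1f001f001f001f001f001f001f001f001f001f001f001f001f001f001f001f001f001f001f001f001f001f001f001f001f001f001f001f001f001f001f001f001f001f001f001f001f001f001f001f001f001f001f001f001f001f001f001f001f001f001f001f001f001f001f001f001f001f001f001f001f001f001f001f001f001f001f001f001f001f001f001f001f001f001f001f001f001f001f001f001f001f001f001f001f001f001f001f001f001f001f001f001f001f001f001f001f001f001f001f001f001f001f001f001f001f001f001f001f001f001f001f001f001f001f001f001f001f001f001f001f001f001f001f001f001f001f001f001f001f001f001f001f001f001f001f001f001f001f001f001f001f001f001f001f001f001f001f001f001f001f001f001f001f001f001f001f001f001f001f001f001f001f001f001f001f001f00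1f001f001f001f001f001f001f001f001f001f001f001f001f001f001f001f001f001f001f001f001f001f001f001f001f001f001f001f001f001f001f001f001f001f001f001f001f001f001f001f001f001f001f001f001f001f001f001f001f001f001f001f001f001f001f001f001f001f001f001f001f001f001f001f001f001f001f001f001f001f001f001f001f001f001f001f001f001f001f001f001f001f001f001f001f001f001f001f001f001f001f001f001f001f001f001f001f001f001f001f001f001f001f001f001f001f001f001f001f001f001f001f001f001f001f001f001f001f001f001f001f001f001f001f001f001f001f001f001f001f001f001f001f001f001f001f001f001f001f001f001f001f001f001f001f001f001f001f001f001f001f001f001f001f001f001f001f001f001f001f001f001f001f001f001f001f001f001f001f001f001f001f001f001f001f001f001f001f001f001f001f001f001f001f001f001f001f001f001f001f001f001f001f001f001f001f001f001f001f001f001f001f001f001f001f001f001f001f001f001f001f001f001f001f001f001f001f001f001f001f001f001f001f001f001f001f001f001f001f001f001f001f001f001f001f001f001f001f001f001f001f001f001f001f001f001f001f001f001f001f001f001f001f001f001f001f00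1f001f001f001f001f001f001f001f001f001f001f001f001f001f001f001f001f001f001f001f001f001f001f001f001f001f001f001f001f001f001f001f001f001f001f001f001f001f001f001f001f001f001f001f001f001f001f001f001f001f001f001f001f001f001f001f001f001f001f001f001f001f001f001f001f001f001f001f001f001f001f001f001f001f001f001f001f001f001f001f001f001f001f001f001f001f001f001f001f001f001f001f001f001f001f001f001f001f001f001f001f001f001f001f001f001f001f001f001f001f001f001f001f001f001f001f001f001f001f001f001f001f001f001f001f001f001f001f001f001f001f001f001f001f001f001f001f001f001f001f001f001f001f001f001f001f001f001f001f001f001f001f001f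

theorem M31_dg : allLt2 24 24 (fun p => Nat.beq (dg M31 p) 31) = true := by decide +kernel

/-- at most 576 digits, all below 32 -/
def small (a : ℕ) : Bool := Nat.beq (Nat.land a M31) a

theorem small_lt {a : ℕ} (h : small a = true) : a < 65536 ^ 576 := by
  rw [← Nat.eq_of_beq_eq_true h]
  exact lt_of_le_of_lt Nat.and_le_right (by decide +kernel)

theorem small_dg {a : ℕ} (h : small a = true) {p : ℕ} (hp : p < 576) : dg a p ≤ 31 := by
  rw [← Nat.eq_of_beq_eq_true h, dg_land, Nat.eq_of_beq_eq_true (allLt2_iff.1 M31_dg p hp)]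
  exact Nat.and_le_right

/-- entries of the matrix with code `P` -/
def ent (P : ℕ) (p q : GolayPt) : ℤ := (dg P (24 * idx q + idx p) : ℤ) - 16

/-- the linear map with code `P` -/
def matF (P : ℕ) : (GolayPt → ℤ) →+ (GolayPt → ℤ) where
  toFun x p := ∑ q, ent P p q * x q
  map_zero' := by funext p; simp
  map_add' x y := by
    funext p
    simp only [Pi.add_apply, mul_add, Finset.sum_add_distrib]

theorem matF_apply (P : ℕ) (x : GolayPt → ℤ) (p : GolayPt) :
    matF P x p = ∑ q, ent P p q * x q := rfl

theorem raw_big {e : ℕ → ℕ → ℕ} (he : ∀ j < 24, ∀ i < 24, e j i ≤ 32) {a : ℕ}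
    (ha : a < 65536 ^ 24) (hd : ∀ i < 24, dg a i ≤ 32) {j : ℕ} (hj : j < 24) :
    (dg (raw KBIG (mkR e) a) j : ℤ) =
      32768 + ∑ i ∈ range 24, ((e j i : ℤ) - 16) * ((dg a i : ℤ) - 16) := by
  have hb : ∀ j < 24, 0 ≤ 32768 + ∑ i ∈ range 24, ((e j i : ℤ) - 16) * ((dg a i : ℤ) - 16) ∧
      32768 + ∑ i ∈ range 24, ((e j i : ℤ) - 16) * ((dg a i : ℤ) - 16) ≤ 65534 := by
    intro j hj
    have hb : |∑ i ∈ range 24, ((e j i : ℤ) - 16) * ((dg a i : ℤ) - 16)| ≤
        ∑ i ∈ range 24, (256 : ℤ) := by
      refine le_trans (Finset.abs_sum_le_sum_abs _ _) (Finset.sum_le_sum fun i hi => ?_)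
      have h1 : |(e j i : ℤ) - 16| ≤ 16 := by
        have := he j hj i (Finset.mem_range.1 hi)
        rw [abs_le]; omega
      have h2 : |(dg a i : ℤ) - 16| ≤ 16 := by
        have := hd i (Finset.mem_range.1 hi)
        rw [abs_le]; omega
      rw [abs_mul]
      exact le_trans (mul_le_mul h1 h2 (abs_nonneg _) (by norm_num)) (by norm_num)
    rw [Finset.sum_const, Finset.card_range, abs_le] at hb
    simp only [nsmul_eq_mul, Nat.cast_ofNat] at hb
    constructor <;> linarith [hb.1, hb.2]
  exact (lt_of_ev (raw_eq isKBIG (by norm_num) he ha hd hb)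
    (fun j hj => ⟨(hb j hj).1, by linarith [(hb j hj).2]⟩)).2 j hj

/-- the image of the vector with code `a` is eight times a lattice vector -/
def okImg (R a : ℕ) : Bool :=
  force (app R a) fun b => isV b && (small b &&
    Nat.beq (raw KBIG R a) (Nat.add 0x7f807f807f807f807f807f807f807f807f807f807f807f807f807f807f807f807f807f807f807f807f807f807f807f80 (Nat.mul 8 b)))

theorem okImg_spec {P a : ℕ} (hP : small P = true) (ha : a < 65536 ^ 24) (ha' : small a = true)
    (h : okImg (matR P) a = true) : ∃ y ∈ leechLattice, matF P (vec a) = (8 : ℤ) • y := by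
  unfold okImg at h
  rw [force_eq] at h
  generalize app (matR P) a = b at h
  simp only [Bool.and_eq_true, Nat.beq_eq] at h
  obtain ⟨h1, h2, h3⟩ := h
  refine ⟨vec b, (isV_spec h1).2, funext (forall_pt.2 fun j hj => ?_)⟩
  have e1 := raw_big (e := fun j i => dg P (Nat.add (Nat.mul 24 i) j))
    (fun j hj i hi => le_trans (small_dg hP (p := 24 * i + j) (by omega)) (by norm_num)) ha
    (fun i hi => le_trans (small_dg ha' (by omega)) (by norm_num)) hj
  have e2 : ((Nat.add 0x7f807f807f807f807f807f807f807f807f807f807f807f807f807f807f807f807f807f807f807f807f807f807f807f80 (Nat.mul 8 b) : ℕ) : ℤ) =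
      ev 24 (fun i => 32640 + 8 * (dg b i : ℤ)) := by
    rw [ev_add, ev_mul, ← ev_dg_of_lt (isV_spec h1).1, Nat.add_eq, Nat.mul_eq, Nat.cast_add,
      Nat.cast_mul, show ((0x7f807f807f807f807f807f807f807f807f807f807f807f807f807f807f807f807f807f807f807f807f807f807f807f80 : ℕ) : ℤ) = ev 24 (fun _ => 32640) by decide +kernel]
    rfl
  have e3 := (lt_of_ev e2 fun i hi => by
    have := small_dg h2 (p := i) (by omega)
    omega).2 j hj
  rw [← h3] at e3
  have e4 : matF P (vec a) (pt j) =
      ∑ i ∈ range 24, ((dg P (Nat.add (Nat.mul 24 i) j) : ℤ) - 16) * ((dg a i : ℤ) - 16) := by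
    rw [matF_apply, sum_pt]
    refine Finset.sum_congr rfl fun i hi => ?_
    rw [vec_pt a (Finset.mem_range.1 hi), ent, idx_pt hj, idx_pt (Finset.mem_range.1 hi)]
    rfl
  rw [e4, Pi.smul_apply, vec_pt b hj, smul_eq_mul]
  have e5 : (dg (raw KBIG (matR P) a) j : ℤ) = _ := e1
  omega

/-- codes of generators of the lattice -/
def genC1 (i : ℕ) : ℕ := Nat.add 0xc00100010001000100010001000100010001000100010001000100010001000100010001000100010001000100010 (Nat.shiftLeft 4 (Nat.mul 16 i))
/-- code of twice the indicator vector of a mask -/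
def genC2 (m : ℕ) : ℕ :=
  Nat.add OFF (sumLt 24 fun i => Bool.rec 0 (Nat.shiftLeft 2 (Nat.mul 16 i)) (bit m i))
/-- code of `(1^23, -3)` -/
def genC3 : ℕ := 0xd00110011001100110011001100110011001100110011001100110011001100110011001100110011001100110011

/-- kernel test: `P` is the code of an element of `Co0` -/
def okM (P : ℕ) : Bool :=
  small P && (force (matT P) (fun T => allLt 24 fun k => Nat.beq (raw KBIG T (col P k))
      (Nat.add 0x800080008000800080008000800080008000800080008000800080008000800080008000800080008000800080008000 (Nat.shiftLeft 64 (Nat.mul 16 k)))) &&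
    force (matR P) fun R => allLt 24 (fun i => okImg R (genC1 i)) && (okImg R (e8C 23) &&
      (allLt 12 (fun i => okImg R (genC2 (basisL.getD i 0))) && okImg R genC3)))

theorem exists_isM {P : ℕ} (h : okM P = true) : ∃ g : Co0, IsM P g := by
  unfold okM at h
  simp only [force_eq, Bool.and_eq_true, allLt_iff, Nat.beq_eq] at h
  obtain ⟨hP, hG, h1, h2, h3, h4⟩ := h
  have gram : ∀ q q' : GolayPt, ∑ p, ent P p q * ent P p q' = if q = q' then 64 else 0 := by
    intro q q'
    have e1 := raw_big (e := fun j i => dg P (Nat.add (Nat.mul 24 j) i))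
      (fun j hj i hi => le_trans (small_dg hP (p := 24 * j + i) (by omega)) (by norm_num))
      (col_lt P (idx q')) (fun i hi => by
        have := idx_lt q'
        rw [dg_col _ _ hi]
        exact le_trans (small_dg hP (by omega)) (by norm_num)) (idx_lt q)
    have e2 : ∀ k < 24, ∀ j < 24, dg (Nat.add 0x800080008000800080008000800080008000800080008000800080008000800080008000800080008000800080008000 (Nat.shiftLeft 64 (Nat.mul 16 k))) j =
        if j = k then 32832 else 32768 := by decide +kernel
    have e3 : dg (raw KBIG (matT P) (col P (idx q'))) (idx q) = _ :=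
      hG _ (idx_lt q') ▸ e2 _ (idx_lt q') _ (idx_lt q)
    have e4 : ∑ p, ent P p q * ent P p q' = ∑ i ∈ range 24,
        ((dg P (Nat.add (Nat.mul 24 (idx q)) i) : ℤ) - 16) * ((dg (col P (idx q')) i : ℤ) - 16) := by
      rw [sum_pt]
      refine Finset.sum_congr rfl fun i hi => ?_
      rw [dg_col _ _ (Finset.mem_range.1 hi), ent, ent, idx_pt (Finset.mem_range.1 hi)]
      rfl
    have e5 : (dg (raw KBIG (matT P) (col P (idx q'))) (idx q) : ℤ) = _ := e1
    rw [e4]
    rw [e3] at e5
    simp only [idx_injective.eq_iff] at e5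
    split_ifs at e5 ⊢ <;> omega
  have hn : ∀ x, sqNorm (matF P x) = (8 : ℤ) ^ 2 * sqNorm x := by
    intro x
    rw [sqNorm_def, sqNorm_def]
    simp only [matF_apply, sq, Finset.sum_mul_sum]
    rw [Finset.sum_comm, Finset.mul_sum]
    refine Finset.sum_congr rfl fun q _ => ?_
    rw [Finset.sum_comm]
    have : ∀ q', ∑ p, ent P p q * x q * (ent P p q' * x q') =
        if q = q' then 64 * (x q * x q') else 0 := by
      intro q'
      rw [Finset.sum_congr rfl fun p _ =>
        show ent P p q * x q * (ent P p q' * x q') = ent P p q * ent P p q' * (x q * x q') by ring,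
        ← Finset.sum_mul, gram, ite_mul, zero_mul]
    rw [Finset.sum_congr rfl fun q' _ => this q', Finset.sum_ite_eq, if_pos (Finset.mem_univ _)]
    norm_num
  have g1 : ∀ i < 24, genC1 i < 65536 ^ 24 ∧ small (genC1 i) = true ∧ ∀ p : GolayPt,
      vec (genC1 i) p = (if p = pt i then 4 else 0) - (if p = none then 4 else 0) := by
    decide +kernel
  have g3 : ∀ i < 12, genC2 (basisL.getD i 0) < 65536 ^ 24 ∧
      small (genC2 (basisL.getD i 0)) = true ∧ ∀ p : GolayPt,
      vec (genC2 (basisL.getD i 0)) p = 2 * (if (basisL.getD i 0).testBit (idx p) then 1 else 0) := by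
    decide +kernel
  have g4 : ∀ p : GolayPt, vec genC3 p = if p = none then -3 else 1 := by decide +kernel
  obtain ⟨g, hg⟩ := exists_co0_of_addHom (matF P) 8 (by norm_num) hn
    (forall_pt.2 fun i hi => by
      have e : (Pi.single (pt i) 4 - Pi.single none 4 : GolayPt → ℤ) = vec (genC1 i) := by
        funext p
        rw [(g1 i hi).2.2 p, Pi.sub_apply, Pi.single_apply, Pi.single_apply]
      rw [e]
      exact okImg_spec hP (g1 i hi).1 (g1 i hi).2.1 (h1 i hi))
    (by
      have e : (Pi.single none 8 : GolayPt → ℤ) = vec (e8C 23) :=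
        ((code_e8C (i := 23) (by norm_num)).2).symm
      rw [e]
      exact okImg_spec hP (code_e8C (by norm_num)).1 (by decide +kernel) h2)
    (fun b hb => by
      obtain ⟨i, hi, rfl⟩ : ∃ i < 12, basisL.getD i 0 = b := by
        revert b; decide +kernel
      have e : rep 0 (ofMask (basisL.getD i 0)) = vec (genC2 (basisL.getD i 0)) := by
        funext p
        rw [(g3 i hi).2.2 p, rep_zero]
        simp only [ind_apply, mem_ofMask]
      rw [e]
      exact okImg_spec hP (g3 i hi).1 (g3 i hi).2.1 (h3 i hi))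
    (by
      have e : odd3 none = vec genC3 := funext fun p => by rw [g4 p, odd3_apply]
      rw [e]
      exact okImg_spec hP (by decide +kernel) (by decide +kernel) h4)
  refine ⟨g, small_lt hP, fun i hi => ⟨col_lt P i, funext (forall_pt.2 fun j hj => ?_)⟩⟩
  have e := congrFun (hg (e8 (pt i))) (pt j)
  rw [matF_apply, coe_e8, Finset.sum_eq_single (pt i) (fun q _ hq => by
    rw [Pi.single_eq_of_ne hq, mul_zero]) (fun h => absurd (Finset.mem_univ _) h),
    Pi.single_eq_same, ent, idx_pt hi, idx_pt hj, Pi.smul_apply, smul_eq_mul] at e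
  rw [vec_pt _ hj, dg_col _ _ hj]
  omega

open Classical in
/-- the element of `Co0` with code `P` -/
noncomputable def el (P : ℕ) : Co0 := if h : ∃ g : Co0, IsM P g then h.choose else 1

theorem IsM.el_eq {P : ℕ} {g : Co0} (h : IsM P g) : el P = g := by
  have h' : ∃ g : Co0, IsM P g := ⟨g, h⟩
  unfold el; rw [dif_pos h']; exact h'.choose_spec.eq_el h

theorem isM_el {P : ℕ} (h : okM P = true) : IsM P (el P) := by
  obtain ⟨g, hg⟩ := exists_isM h
  rw [hg.el_eq]; exact hg

/-- `el P` maps the vector with code `a` to the vector with code `b` -/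
theorem el_smul {P a b : ℕ} {v w : leechLattice} (h : okM P = true) (hv : Code a v) (hw : Code b w)
    (hn : sqNorm (v : GolayPt → ℤ) ≤ 256) (e : app (matR P) a = b) : el P • v = w :=
  (isM_el h).isR.smul_eq hv hw hn e

/-! ### walks -/

/-- state of a walk: the code, with a check sum in the low 64 bits -/
def wrap (a : ℕ) : ℕ := Nat.add (Nat.shiftLeft a 64) (Nat.mod a 2305843009213693951)
/-- the action on states -/
def act (R x : ℕ) : ℕ := wrap (app R (Nat.shiftRight x 64))

theorem unwrap (a : ℕ) : Nat.shiftRight (wrap a) 64 = a := by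
  have h1 : Nat.shiftRight (wrap a) 64 = wrap a / 2 ^ 64 := Nat.shiftRight_eq_div_pow _ _
  have h2 : wrap a = a * 2 ^ 64 + a % 2305843009213693951 := by
    show a <<< 64 + _ = _
    rw [Nat.shiftLeft_eq]; rfl
  have h3 : a % 2305843009213693951 < 2305843009213693951 := Nat.mod_lt _ (by norm_num)
  rw [h1, h2]
  omega

/-- the invariant of a walk -/
def WP (H : Subgroup Co0) (v₀ : leechLattice) (x : ℕ) : Prop :=
  ∃ a, ∃ v ∈ MulAction.orbit H v₀, Code a v ∧ x = wrap a

theorem norm_of_mem_orbit {H : Subgroup Co0} {v₀ v : leechLattice} (h : v ∈ MulAction.orbit H v₀) :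
    sqNorm (v : GolayPt → ℤ) = sqNorm (v₀ : GolayPt → ℤ) := by
  obtain ⟨g, rfl⟩ := h
  exact sqNorm_co0 g v₀

theorem walk_spec {H : Subgroup Co0} {S : List ℕ} (hS : ∀ R ∈ S, ∃ g ∈ H, IsR R g)
    {v₀ : leechLattice} (hn : sqNorm (v₀ : GolayPt → ℤ) ≤ 256) (hash f : ℕ → ℕ) :
    H54.OrbSpec (fun x => lv (Nat.shiftRight x 64)) (WP H v₀) act hash f
      (fun v => f (wrap (cod v))) S where
  step R hR x := by
    rintro ⟨a, v, hv, ha, rfl⟩
    obtain ⟨g, hg, hgR⟩ := hS R hR
    refine ⟨app R a, g • v, ?_, hgR.app ha (by rwa [norm_of_mem_orbit hv]), ?_⟩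
    · exact MulAction.mem_orbit_of_mem_orbit (⟨g, hg⟩ : H) hv
    · unfold act; rw [unwrap]
  key x y := by
    rintro ⟨a, v, -, ha, rfl⟩ ⟨b, w, -, hb, rfl⟩ e
    simp only [unwrap, ha.lv_eq, hb.lv_eq] at e
    rw [ha.eq_code (e ▸ hb)]
  wt x := by
    rintro ⟨a, v, -, ha, rfl⟩
    simp only [unwrap, ha.lv_eq, ha.cod_eq]

theorem wp_start (H : Subgroup Co0) {a x : ℕ} {v₀ : leechLattice} (h : Code a v₀)
    (e : wrap a = x) : WP H v₀ x := ⟨a, v₀, MulAction.mem_orbit_self _, h, e.symm⟩

theorem finite_orbit (H : Subgroup Co0) (v : leechLattice) : (MulAction.orbit H v).Finite :=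
  Set.finite_range _

/-- what a walk proves -/
theorem walk_finset {H : Subgroup Co0} {v₀ : leechLattice} {W : leechLattice → ℕ} {N A : ℕ}
    (h : ∃ F : Finset leechLattice,
      (∀ y ∈ F, ∃ x, WP H v₀ x ∧ (fun x => lv (Nat.shiftRight x 64)) x = y) ∧ F.card = N ∧
        ∑ y ∈ F, W y = A) :
    ∃ F : Finset leechLattice, (F : Set leechLattice) ⊆ MulAction.orbit H v₀ ∧ F.card = N ∧
      ∑ y ∈ F, W y = A := by
  obtain ⟨F, h1, h2, h3⟩ := h
  refine ⟨F, fun y hy => ?_, h2, h3⟩
  obtain ⟨x, ⟨a, v, hv, ha, rfl⟩, rfl⟩ := h1 y hy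
  simp only [unwrap, ha.lv_eq]
  exact hv

theorem walk_le {H : Subgroup Co0} {v₀ : leechLattice} {W : leechLattice → ℕ} {N A : ℕ}
    (h : ∃ F : Finset leechLattice,
      (∀ y ∈ F, ∃ x, WP H v₀ x ∧ (fun x => lv (Nat.shiftRight x 64)) x = y) ∧ F.card = N ∧
        ∑ y ∈ F, W y = A) : N ≤ (MulAction.orbit H v₀).ncard := by
  obtain ⟨F, h1, h2, -⟩ := walk_finset h
  rw [← h2, ← Set.ncard_coe_finset]
  exact Set.ncard_le_ncard h1 (finite_orbit H v₀)

/-- the multipliers of valid codes fixing the vectors with the given codes -/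
def okGens (Ps fix : List ℕ) : Bool :=
  Ps.all fun P => okM P && force (matR P) fun R => fix.all fun a => Nat.beq (app R a) a

theorem okGens_spec {Ps fix : List ℕ} (h : okGens Ps fix = true) {P : ℕ} (hP : P ∈ Ps) :
    okM P = true ∧ ∀ a ∈ fix, ∀ v : leechLattice, Code a v → sqNorm (v : GolayPt → ℤ) ≤ 256 →
      el P • v = v := by
  unfold okGens at h
  simp only [List.all_eq_true, Bool.and_eq_true, force_eq, Nat.beq_eq] at h
  exact ⟨(h P hP).1, fun a ha v hv hn => el_smul (h P hP).1 hv hv hn ((h P hP).2 a ha)⟩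

theorem isR_of_map {Ps S : List ℕ} (e : Ps.map matR = S) {H : Subgroup Co0}
    (h : ∀ P ∈ Ps, okM P = true ∧ el P ∈ H) : ∀ R ∈ S, ∃ g ∈ H, IsR R g := by
  intro R hR
  obtain ⟨P, hP, rfl⟩ := List.mem_map.1 (e ▸ hR)
  exact ⟨el P, (h P hP).2, (isM_el (h P hP).1).isR⟩

theorem eqns_Mat : True := by
  have := @M31.eq_1
  have := @small.eq_1
  have := @ent.eq_1
  have := @matF.eq_1
  have := @okImg.eq_1
  have := @genC1.eq_1
  have := @genC2.eq_1
  have := @genC3.eq_1
  have := @okM.eq_1
  have := @el.eq_1
  have := @wrap.eq_1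
  have := @act.eq_1
  have := @WP.eq_1
  have := @okGens.eq_1
  exact True.intro

end H16
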